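import Cfsg.Agent.Lib.BlocksCore.FirstMain
import Cfsg.Agent.Blocks88.Defect
import Mathlib.LinearAlgebra.Transvection.Basic
import Mathlib.LinearAlgebra.Matrix.SpecialLinearGroup
import Mathlib.LinearAlgebra.Dual.Lemmas
import Mathlib.GroupTheory.Nilpotent
import Mathlib.FieldTheory.Finite.Basic

/-!
# Defect groups in `SL_n(q)` in the defining characteristic

A non-trivial defect group contains every normal `p`-subgroup of its normaliser, so it is the stability
group of the flag of its commutator spaces; its centraliser is then scalars times itself, so a defect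
class is central and the defect group is a Sylow subgroup.
-/

set_option autoImplicit false

namespace Cfsg.Agent.SLDefect

open Matrix BlocksCore BlocksDefect

variable {F : Type*} [Field F] {n : ℕ} {p : ℕ}

/-- The linear map of an element of `SL_n`. -/
def lin (F : Type*) [Field F] (n : ℕ) :
    Matrix.SpecialLinearGroup (Fin n) F →* Module.End F (Fin n → F) where
  toFun g := Matrix.toLinAlgEquiv' (g : Matrix (Fin n) (Fin n) F)
  map_one' := by simp
  map_mul' g h := by simp

theorem lin_injective : Function.Injective (lin F n) := fun g h e =>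
  Subtype.ext (Matrix.toLinAlgEquiv'.injective e)

theorem lin_det (g : Matrix.SpecialLinearGroup (Fin n) F) : LinearMap.det (lin F n g) = 1 := by
  show LinearMap.det (Matrix.toLin' (g : Matrix (Fin n) (Fin n) F)) = 1
  rw [LinearMap.det_toLin', g.2]

theorem exists_lin {T : Module.End F (Fin n → F)} (hT : LinearMap.det T = 1) :
    ∃ g : Matrix.SpecialLinearGroup (Fin n) F, lin F n g = T :=
  ⟨⟨LinearMap.toMatrix' T, by rw [LinearMap.det_toMatrix', hT]⟩, Matrix.toLin'_toMatrix' T⟩

theorem lin_inv_apply (g : Matrix.SpecialLinearGroup (Fin n) F) (v : Fin n → F) :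
    lin F n g⁻¹ (lin F n g v) = v := by
  rw [← Module.End.mul_apply, ← map_mul, inv_mul_cancel, map_one, Module.End.one_apply]

theorem lin_apply_inv (g : Matrix.SpecialLinearGroup (Fin n) F) (v : Fin n → F) :
    lin F n g (lin F n g⁻¹ v) = v := by
  rw [← Module.End.mul_apply, ← map_mul, mul_inv_cancel, map_one, Module.End.one_apply]

variable (D : Subgroup (Matrix.SpecialLinearGroup (Fin n) F))

/-- The descending commutator spaces of `D`. -/
def flag : ℕ → Submodule F (Fin n → F)
  | 0 => ⊤
  | i + 1 => Submodule.span F {w | ∃ d ∈ D, ∃ v ∈ flag i, w = lin F n d v - v}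

theorem flag_invariant {g : Matrix.SpecialLinearGroup (Fin n) F}
    (hg : g ∈ Subgroup.normalizer (D : Set (Matrix.SpecialLinearGroup (Fin n) F))) :
    ∀ i, ∀ v ∈ flag D i, lin F n g v ∈ flag D i
  | 0 => fun v _ => Submodule.mem_top
  | i + 1 => by
    suffices h : flag D (i + 1) ≤ (flag D (i + 1)).comap (lin F n g) from fun v hv => h hv
    rw [flag, Submodule.span_le]
    rintro _ ⟨d, hd, w, hw, rfl⟩
    simp only [SetLike.mem_coe, Submodule.mem_comap]
    refine Submodule.subset_span ⟨g * d * g⁻¹, (Subgroup.mem_normalizer_iff.mp hg d).mp hd,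
      lin F n g w, flag_invariant hg i w hw, ?_⟩
    rw [map_sub, map_mul, map_mul, Module.End.mul_apply, Module.End.mul_apply, lin_inv_apply]

theorem flag_succ_le (i : ℕ) : flag D (i + 1) ≤ flag D i := by
  rw [flag, Submodule.span_le]
  rintro _ ⟨d, hd, w, hw, rfl⟩
  exact Submodule.sub_mem _ (flag_invariant D (Subgroup.le_normalizer hd) i w hw) hw

theorem flag_anti {i j : ℕ} (h : i ≤ j) : flag D j ≤ flag D i := by
  induction h with
  | refl => exact le_rfl
  | step _ ih => exact (flag_succ_le D _).trans ih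

theorem mem_flag_succ {d : Matrix.SpecialLinearGroup (Fin n) F} (hd : d ∈ D) {i : ℕ} {v : Fin n → F}
    (hv : v ∈ flag D i) : lin F n d v - v ∈ flag D (i + 1) :=
  Submodule.subset_span ⟨d, hd, v, hv, rfl⟩

theorem flag_strict [Fact p.Prime] [CharP F p] [Finite F] (hD : IsPGroup p D) {i : ℕ}
    (h : flag D i ≠ ⊥) : flag D (i + 1) < flag D i := by
  classical
  refine lt_of_le_of_ne (flag_succ_le D i) fun he => ?_
  let W := flag D i
  let r : D → (W →ₗ[F] W) := fun d => (lin F n (d : Matrix.SpecialLinearGroup (Fin n) F)).restrict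
    (fun v hv => flag_invariant D (Subgroup.le_normalizer d.2) i v hv)
  letI : MulAction D (Module.Dual F W) :=
    { smul := fun d φ => φ.comp (r d⁻¹)
      one_smul := fun φ => LinearMap.ext fun v => congrArg φ (Subtype.ext (by
        show lin F n (((1 : D)⁻¹ : D) : Matrix.SpecialLinearGroup (Fin n) F) (v : Fin n → F) = v
        simp))
      mul_smul := fun a b φ => LinearMap.ext fun v => congrArg φ (Subtype.ext (by
        show lin F n (((a * b)⁻¹ : D) : Matrix.SpecialLinearGroup (Fin n) F) (v : Fin n → F) =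
          lin F n ((b⁻¹ : D) : Matrix.SpecialLinearGroup (Fin n) F)
            (lin F n ((a⁻¹ : D) : Matrix.SpecialLinearGroup (Fin n) F) v)
        simp)) }
  haveI : Finite (Module.Dual F W) := Module.finite_of_finite F
  have hdvd : p ∣ Nat.card (Module.Dual F W) := by
    haveI : Fintype F := Fintype.ofFinite F
    obtain ⟨k, -, hk⟩ := FiniteField.card F p
    rw [Module.natCard_eq_pow_finrank (K := F), Nat.card_eq_fintype_card, hk, ← pow_mul]
    refine dvd_pow_self p (Nat.mul_ne_zero k.ne_zero ?_)
    rw [Subspace.dual_finrank_eq]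
    exact fun h0 => h (Submodule.finrank_eq_zero.mp h0)
  obtain ⟨φ, hφ, hne⟩ := hD.exists_fixed_point_of_prime_dvd_card_of_fixed_point (Module.Dual F W) hdvd
    (a := 0) (fun d => LinearMap.ext fun v => rfl)
  have hker : flag D (i + 1) ≤ (LinearMap.ker φ).map W.subtype := by
    rw [flag, Submodule.span_le]
    rintro _ ⟨d, hd, w, hw, rfl⟩
    refine ⟨⟨lin F n d w - w, Submodule.sub_mem _ (flag_invariant D (Subgroup.le_normalizer hd) i w hw) hw⟩, ?_, rfl⟩
    have h1 : φ (r (⟨d, hd⟩ : D)⁻¹⁻¹ ⟨w, hw⟩) = φ ⟨w, hw⟩ :=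
      LinearMap.congr_fun (hφ (⟨d, hd⟩ : D)⁻¹) ⟨w, hw⟩
    rw [inv_inv] at h1
    rw [SetLike.mem_coe, LinearMap.mem_ker,
      show (⟨lin F n d w - w, _⟩ : W) = r ⟨d, hd⟩ ⟨w, hw⟩ - ⟨w, hw⟩ from Subtype.ext rfl, map_sub, h1, sub_self]
  refine hne (LinearMap.ext fun v => ?_)
  obtain ⟨u, hu, huv⟩ := hker (show (v : Fin n → F) ∈ flag D (i + 1) by rw [he]; exact v.2)
  rw [← Subtype.ext huv (a2 := v)]
  exact (LinearMap.mem_ker.mp hu).symm

theorem flag_last [Fact p.Prime] [CharP F p] [Finite F] (hD : IsPGroup p D) : flag D n = ⊥ := by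
  have key : ∀ i, flag D i = ⊥ ∨ Module.finrank F (flag D i) + i ≤ n := by
    intro i
    induction i with
    | zero => exact Or.inr (by rw [flag, finrank_top, Module.finrank_fin_fun]; rfl)
    | succ i ih =>
      by_cases h : flag D i = ⊥
      · exact Or.inl (le_bot_iff.mp (h ▸ flag_succ_le D i))
      · have := Submodule.finrank_lt_finrank_of_lt (flag_strict D hD h)
        have := ih.resolve_left h
        exact Or.inr (by omega)
  rcases key n with h | h
  · exact h
  · exact Submodule.finrank_eq_zero.mp (by omega)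

/-- The stability group of the flag. -/
def stab [Finite F] : Subgroup (Matrix.SpecialLinearGroup (Fin n) F) where
  carrier := {g | ∀ i, ∀ v ∈ flag D i, lin F n g v - v ∈ flag D (i + 1)}
  one_mem' := fun i v _ => by simp
  mul_mem' := fun {a b} ha hb i v hv => by
    have h1 := hb i v hv
    have h2 := flag_succ_le D (i + 1) (ha (i + 1) _ h1)
    have h3 := ha i v hv
    have e : lin F n (a * b) v - v =
        (lin F n a (lin F n b v - v) - (lin F n b v - v)) + (lin F n a v - v) + (lin F n b v - v) := by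
      rw [map_mul, Module.End.mul_apply, map_sub]; abel
    rw [e]
    exact Submodule.add_mem _ (Submodule.add_mem _ h2 h3) h1
  inv_mem' := fun {a} ha => by
    haveI : Fintype (Matrix.SpecialLinearGroup (Fin n) F) := Fintype.ofFinite _
    have key : ∀ k, ∀ i, ∀ v ∈ flag D i, lin F n (a ^ k) v - v ∈ flag D (i + 1) := by
      intro k
      induction k with
      | zero => intro i v hv; simp
      | succ k ih =>
        intro i v hv
        have h1 := ha i v hv
        have h2 := flag_succ_le D (i + 1) (ih (i + 1) _ h1)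
        have h3 := ih i v hv
        have e : lin F n (a ^ (k + 1)) v - v = (lin F n (a ^ k) (lin F n a v - v) - (lin F n a v - v)) +
            (lin F n (a ^ k) v - v) + (lin F n a v - v) := by
          rw [pow_succ, map_mul, Module.End.mul_apply, map_sub]; abel
        rw [e]
        exact Submodule.add_mem _ (Submodule.add_mem _ h2 h3) h1
    have e : a⁻¹ = a ^ (orderOf a - 1) := by
      rw [inv_eq_iff_mul_eq_one, ← pow_succ', Nat.sub_add_cancel (orderOf_pos a), pow_orderOf_eq_one]
    exact e ▸ key _

theorem sub_one_pow_mem [Finite F] {g : Matrix.SpecialLinearGroup (Fin n) F} (hg : g ∈ stab D) (v : Fin n → F) :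
    ∀ i, ((lin F n g - 1) ^ i) v ∈ flag D i
  | 0 => Submodule.mem_top
  | i + 1 => by
    rw [pow_succ', Module.End.mul_apply, LinearMap.sub_apply, Module.End.one_apply]
    exact hg i _ (sub_one_pow_mem hg v i)

theorem charP_end [CharP F p] [NeZero n] : CharP (Module.End F (Fin n → F)) p :=
  charP_of_injective_algebraMap (FaithfulSMul.algebraMap_injective F _) p

theorem isPGroup_stab [Fact p.Prime] [CharP F p] [Finite F] [NeZero n] (hD : IsPGroup p D) :
    IsPGroup p (stab D) := by
  haveI := charP_end (F := F) (n := n) (p := p)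
  intro g
  refine ⟨n, Subtype.ext (lin_injective ?_)⟩
  rw [Subgroup.coe_pow, Subgroup.coe_one, map_pow, map_one]
  have h0 : (lin F n (g : Matrix.SpecialLinearGroup (Fin n) F) - 1) ^ n = 0 := LinearMap.ext fun v => by
    have := sub_one_pow_mem D g.2 v n
    rw [flag_last D hD] at this
    exact (Submodule.mem_bot F).mp this
  have h1 := sub_pow_char_pow_of_commute (p := p) (n := n)
    (Commute.one_right (lin F n (g : Matrix.SpecialLinearGroup (Fin n) F)))
  rw [one_pow] at h1
  have h2 : (lin F n (g : Matrix.SpecialLinearGroup (Fin n) F) - 1) ^ p ^ n = 0 :=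
    pow_eq_zero_of_le (Nat.lt_pow_self (Fact.out : p.Prime).one_lt).le h0
  exact sub_eq_zero.mp (h1.symm.trans h2)

theorem le_stab [Finite F] : D ≤ stab D := fun _ hd _ _ hv => mem_flag_succ D hd hv

theorem conj_mem_stab [Finite F] {g u : Matrix.SpecialLinearGroup (Fin n) F}
    (hg : g ∈ Subgroup.normalizer (D : Set (Matrix.SpecialLinearGroup (Fin n) F))) (hu : u ∈ stab D) :
    g * u * g⁻¹ ∈ stab D := by
  intro i v hv
  have h1 := flag_invariant D hg (i + 1) _ (hu i _ (flag_invariant D (inv_mem hg) i v hv))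
  rwa [map_sub, lin_apply_inv, ← Module.End.mul_apply, ← Module.End.mul_apply, ← map_mul, ← map_mul]
    at h1

/-- A `p`-subgroup containing every normal `p`-subgroup of its normaliser is a stability group. -/
theorem stab_eq_of_radical [Fact p.Prime] [CharP F p] [Finite F] [NeZero n] (hD : IsPGroup p D)
    (hrad : ∀ R : Subgroup (Matrix.SpecialLinearGroup (Fin n) F),
      R ≤ Subgroup.normalizer (D : Set (Matrix.SpecialLinearGroup (Fin n) F)) → IsPGroup p R →
      (∀ g ∈ Subgroup.normalizer (D : Set (Matrix.SpecialLinearGroup (Fin n) F)), ∀ r ∈ R, g * r * g⁻¹ ∈ R) →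
      R ≤ D) : stab D = D := by
  refine le_antisymm ?_ (le_stab D)
  by_contra hnle
  set E := stab D with hE
  haveI : Group.IsNilpotent E := (isPGroup_stab D hD).isNilpotent
  have hlt : D.subgroupOf E < ⊤ := by
    refine lt_top_iff_ne_top.mpr fun h => hnle ?_
    rwa [Subgroup.subgroupOf_eq_top] at h
  have hnc := Group.normalizerCondition_of_isNilpotent (G := E) _ hlt
  obtain ⟨x, hx, hxD⟩ := SetLike.exists_of_lt hnc
  apply hxD
  rw [Subgroup.mem_subgroupOf]
  refine hrad (E ⊓ Subgroup.normalizer (D : Set (Matrix.SpecialLinearGroup (Fin n) F))) inf_le_right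
    ((isPGroup_stab D hD).to_le inf_le_left) (fun g hg r hr => Subgroup.mem_inf.mpr ⟨conj_mem_stab D hg hr.1,
      Subgroup.mul_mem _ (Subgroup.mul_mem _ hg hr.2) (Subgroup.inv_mem _ hg)⟩)
    (Subgroup.mem_inf.mpr ⟨x.2, ?_⟩)
  rw [Subgroup.mem_normalizer_iff] at hx ⊢
  intro y
  constructor
  · intro hy
    simpa [Subgroup.mem_subgroupOf] using (hx ⟨y, le_stab D hy⟩).mp hy
  · intro hy
    have hyE : y ∈ E := by
      have := mul_mem (mul_mem (inv_mem x.2) (le_stab D hy)) x.2
      simpa [mul_assoc] using this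
    exact (hx ⟨y, hyE⟩).mpr (by simpa [Subgroup.mem_subgroupOf] using hy)

/-- Elements centralising such a group are scalars times its elements. -/
theorem mem_center_of_centralizes [Fact p.Prime] [CharP F p] [Finite F] [NeZero n] (hD : IsPGroup p D)
    (hD1 : D ≠ ⊥) (hst : stab D = D) {c : Matrix.SpecialLinearGroup (Fin n) F}
    (hc : c ∈ Subgroup.centralizer (D : Set (Matrix.SpecialLinearGroup (Fin n) F)))
    (hcp : ¬ p ∣ orderOf c) : c ∈ Subgroup.center (Matrix.SpecialLinearGroup (Fin n) F) := by
  classical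
  haveI : Fintype F := Fintype.ofFinite F
  haveI : Fintype (Matrix.SpecialLinearGroup (Fin n) F) := Fintype.ofFinite _
  haveI := charP_end (F := F) (n := n) (p := p)
  have hp : p.Prime := Fact.out
  set T := lin F n c with hT
  -- transvections of the flag
  have htv : ∀ (φ : Module.Dual F (Fin n → F)) (v : Fin n → F), v ∈ flag D 1 → (∀ w ∈ flag D 1, φ w = 0) →
      ∀ x, φ x • T v = φ (T x) • v := by
    intro φ v hv hφ x
    obtain ⟨t, ht⟩ := exists_lin (T := LinearMap.transvection φ v)
      (by rw [LinearMap.transvection.det, hφ v hv, add_zero])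
    have htD : t ∈ D := by
      rw [← hst]
      intro i w hw
      rw [ht, LinearMap.transvection.apply, add_sub_cancel_left]
      rcases Nat.eq_zero_or_pos i with rfl | hi
      · exact Submodule.smul_mem _ _ hv
      · rw [hφ w (flag_anti D hi hw), zero_smul]
        exact Submodule.zero_mem _
    have hcomm := LinearMap.congr_fun (congrArg (lin F n) (Subgroup.mem_centralizer_iff.mp hc t htD)) x
    rw [map_mul, map_mul, Module.End.mul_apply, Module.End.mul_apply, ht, LinearMap.transvection.apply,
      LinearMap.transvection.apply, ← hT, map_add, map_smul] at hcomm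
    exact (add_left_cancel hcomm).symm
  obtain ⟨d, hd, hd1⟩ : ∃ d ∈ D, d ≠ 1 := D.ne_bot_iff_exists_ne_one.mp hD1 |> fun ⟨d, hd⟩ =>
    ⟨d.1, d.2, fun h => hd (Subtype.ext h)⟩
  obtain ⟨v₀, hv₀, hv₀0⟩ : ∃ v ∈ flag D 1, v ≠ 0 := by
    by_contra hcon
    push Not at hcon
    refine hd1 (lin_injective (LinearMap.ext fun v => ?_))
    rw [map_one, Module.End.one_apply]
    exact sub_eq_zero.mp (hcon _ (mem_flag_succ D hd Submodule.mem_top))
  obtain ⟨x₀, hx₀⟩ : ∃ x, x ∉ flag D 1 := by
    by_contra hcon
    push Not at hcon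
    have htop : flag D 1 = ⊤ := Submodule.eq_top_iff'.mpr hcon
    have hb := flag_strict (p := p) D hD (i := 0) (by rw [flag]; exact fun h => hv₀0 (by
      have : v₀ ∈ (⊤ : Submodule F (Fin n → F)) := Submodule.mem_top
      rw [h] at this
      exact (Submodule.mem_bot F).mp this))
    rw [htop] at hb
    exact absurd hb (by simp [flag])
  have hdual : ∀ x, x ∉ flag D 1 → ∃ φ : Module.Dual F (Fin n → F), φ x = 1 ∧ ∀ w ∈ flag D 1, φ w = 0 := by
    intro x hx
    obtain ⟨φ, hφx, hφ⟩ := Submodule.exists_dual_map_eq_bot_of_notMem hx inferInstance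
    refine ⟨(φ x)⁻¹ • φ, by simp [hφx], fun w hw => ?_⟩
    have : φ w ∈ (flag D 1).map φ := ⟨w, hw, rfl⟩
    rw [hφ, Submodule.mem_bot] at this
    simp [this]
  obtain ⟨φ₀, hφ₀x, hφ₀⟩ := hdual x₀ hx₀
  set lam := φ₀ (T x₀) with hlam
  have hTV : ∀ v ∈ flag D 1, T v = lam • v := fun v hv => by
    simpa [hφ₀x] using htv φ₀ v hv hφ₀ x₀
  have hlam0 : lam ≠ 0 := fun h => by
    have := hTV v₀ hv₀
    rw [h, zero_smul] at this
    exact hv₀0 (by rw [← lin_inv_apply c v₀, ← hT, this, map_zero])
  have hTx : ∀ x, T x - lam • x ∈ flag D 1 := by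
    intro x
    by_contra hx
    obtain ⟨φ, hφ1, hφ⟩ := hdual _ hx
    have h := htv φ v₀ hv₀ hφ x
    rw [hTV v₀ hv₀, smul_smul] at h
    have h' : φ (T x) = φ x * lam := smul_left_injective F hv₀0 h.symm
    rw [map_sub, map_smul, h', smul_eq_mul, mul_comm, sub_self] at hφ1
    exact zero_ne_one hφ1
  -- the unipotent part
  set N : Module.End F (Fin n → F) := lam⁻¹ • T - 1 with hN
  have hNx : ∀ x, N x ∈ flag D 1 := fun x => by
    have : N x = lam⁻¹ • (T x - lam • x) := by
      simp [hN, smul_sub, smul_smul, inv_mul_cancel₀ hlam0]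
    rw [this]
    exact Submodule.smul_mem _ _ (hTx x)
  have hNV : ∀ v ∈ flag D 1, N v = 0 := fun v hv => by
    simp [hN, hTV v hv, smul_smul, inv_mul_cancel₀ hlam0]
  have hN2 : N ^ 2 = 0 := LinearMap.ext fun x => by
    rw [pow_two, Module.End.mul_apply, hNV _ (hNx x), LinearMap.zero_apply]
  have hNp : (1 + N) ^ p = 1 := by
    rw [add_pow_char_of_commute (p := p) (Commute.one_left N), one_pow, pow_eq_zero_of_le hp.two_le hN2, add_zero]
  have hdet : LinearMap.det (1 + N) = 1 := by
    have h1 : (LinearMap.det (1 + N)) ^ p = 1 ^ p := by rw [← map_pow, hNp, map_one, one_pow]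
    exact frobenius_inj F p h1
  have hTeq : T = lam • (1 + N) := by
    rw [hN, add_sub_cancel, smul_smul, mul_inv_cancel₀ hlam0, one_smul]
  have hlamn : lam ^ n = 1 := by
    have := congrArg LinearMap.det hTeq
    rw [hT, lin_det, LinearMap.det_smul, hdet, Module.finrank_fin_fun, mul_one] at this
    exact this.symm
  obtain ⟨z, hz⟩ := exists_lin (T := lam • (1 : Module.End F (Fin n → F)))
    (by rw [LinearMap.det_smul, Module.finrank_fin_fun, hlamn, map_one, one_mul])
  have hzc : z ∈ Subgroup.center (Matrix.SpecialLinearGroup (Fin n) F) := by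
    rw [Subgroup.mem_center_iff]
    intro g
    refine lin_injective ?_
    rw [map_mul, map_mul, hz]
    simp
  obtain ⟨u, hu⟩ := exists_lin hdet
  have hcz : c = z * u := lin_injective (by rw [map_mul, hz, hu, ← hT, hTeq, smul_mul_assoc, one_mul])
  have hup : u ^ p = 1 := lin_injective (by rw [map_pow, hu, hNp, map_one])
  have hzq : z ^ (Fintype.card F - 1) = 1 := lin_injective (by
    rw [map_pow, hz, smul_pow, one_pow, FiniteField.pow_card_sub_one_eq_one lam hlam0, one_smul, map_one])
  have hzu : Commute z u := ((Subgroup.mem_center_iff.mp hzc) u).symm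
  have hu1 : u ^ (orderOf c * (Fintype.card F - 1)) = 1 := by
    have h := pow_orderOf_eq_one c
    conv_lhs at h => arg 1; rw [hcz]
    rw [hzu.mul_pow] at h
    have h2 := congrArg (· ^ (Fintype.card F - 1)) h
    simp only [one_pow] at h2
    rw [(hzu.pow_pow _ _).mul_pow, ← pow_mul, ← pow_mul, mul_comm (orderOf c), pow_mul, hzq, one_pow, one_mul,
      mul_comm] at h2
    exact h2
  have hco : (orderOf c * (Fintype.card F - 1)).Coprime p := by
    refine Nat.Coprime.mul_left (hp.coprime_iff_not_dvd.mpr hcp).symm ?_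
    rw [Nat.coprime_comm, hp.coprime_iff_not_dvd]
    intro hdvd
    obtain ⟨k, -, hk⟩ := FiniteField.card F p
    have h1 : p ∣ Fintype.card F := hk ▸ dvd_pow_self p k.ne_zero
    have h2 := Nat.dvd_sub h1 hdvd
    rw [Nat.sub_sub_self Fintype.card_pos] at h2
    exact hp.not_dvd_one h2
  have : u = 1 := by
    have := pow_gcd_eq_one.mpr ⟨hu1, hup⟩
    rwa [hco, pow_one] at this
  rw [hcz, this, mul_one]
  exact hzc

/-- Every block has defect zero or full defect. -/
theorem defect_zero_or_full [Fact p.Prime] [CharP F p] [Finite F] [NeZero n] {M : Ideal AlgInt}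
    (hM : IsPModular p M) {B : Set (IrrCharacter (Matrix.SpecialLinearGroup (Fin n) F))}
    (hB : IsPBlock M B) :
    blockDefect p B = 0 ∨
      blockDefect p B = (Nat.card (Matrix.SpecialLinearGroup (Fin n) F)).factorization p := by
  classical
  haveI : Fintype (Matrix.SpecialLinearGroup (Fin n) F) := Fintype.ofFinite _
  have hp : p.Prime := Fact.out
  obtain ⟨D, hD⟩ := exists_isDefectGroup hM hB
  have hcard := Blocks88.natCard_defectGroup hM hB hD
  rcases eq_or_ne D ⊥ with rfl | hD1
  · left
    rw [Subgroup.card_bot] at hcard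
    exact Nat.pow_right_injective hp.two_le (show p ^ blockDefect p B = p ^ 0 by rw [pow_zero, ← hcard])
  right
  have hDp : IsPGroup p D := isPGroup_of_isDefectGroup hD
  obtain ⟨b, hb, hbD, -⟩ := exists_inducing_normalizer hM hDp hB hD
  have hst : stab D = D := by
    refine stab_eq_of_radical D hDp fun R hR hRp hRn => ?_
    haveI : (R.subgroupOf (Subgroup.normalizer (D : Set _))).Normal :=
      ⟨fun r hr g => by
        rw [Subgroup.mem_subgroupOf] at hr ⊢
        simpa using hRn g g.2 r hr⟩
    have h := le_defectGroup (R.subgroupOf (Subgroup.normalizer (D : Set _))) hM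
      (hRp.comap_of_injective _ (Subgroup.subtype_injective _)) hb hbD
    intro r hr
    simpa [Subgroup.mem_subgroupOf] using
      h (show (⟨r, hR hr⟩ : Subgroup.normalizer (D : Set _)) ∈ _ from hr)
  obtain ⟨g, hg, hS⟩ := isDefectGroup_iff.mp hD
  have := isPrime hM
  have hgc : g ∈ Subgroup.center (Matrix.SpecialLinearGroup (Fin n) F) := by
    refine mem_center_of_centralizes D hDp hD1 hst hS.mem_centralizer fun hdvd => hg.2.1 ?_
    rw [blockCoeff_eq_zero_of_dvd_orderOf hM hB hdvd]
    exact memLocalIdeal_zero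
  have htop : Subgroup.centralizer ({g} : Set (Matrix.SpecialLinearGroup (Fin n) F)) = ⊤ := by
    rw [Subgroup.eq_top_iff']
    intro x
    rw [Subgroup.mem_centralizer_singleton_iff]
    exact Subgroup.mem_center_iff.mp hgc x
  have := hS.natCard
  rw [htop, Subgroup.card_top, hcard] at this
  exact Nat.pow_right_injective hp.two_le this

end Cfsg.Agent.SLDefect
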