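import Mathlib.LinearAlgebra.Matrix.Charpoly.Univ
import Mathlib.FieldTheory.ChevalleyWarning
import Mathlib.Algebra.MvPolynomial.Monad

/-!
# Counting anti-triangular matrices with a given characteristic polynomial

Modulo the characteristic, the number of matrices with prescribed anti-diagonal, zero below it and
prescribed coefficients `1, …, n - 1` of the characteristic polynomial does not depend on the prescribed
data: only the top degree parts matter in the sum of Chevalley and Warning.
-/

set_option autoImplicit false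

namespace Cfsg.Agent.SLDefect

open MvPolynomial

variable {F : Type*} [Field F] {n : ℕ}

/-- The free positions. -/
abbrev Pos (n : ℕ) : Type := {ij : Fin n × Fin n // ij.1 < ij.2}

/-- The matrix with anti-diagonal `α` and free entries `w` above it. -/
def antiMat (α : Fin n → F) (w : Pos n → F) : Matrix (Fin n) (Fin n) F := fun i k =>
  if h : i < Fin.rev k then w ⟨(i, Fin.rev k), h⟩ else if i = Fin.rev k then α k else 0

theorem sum_Icc_sub (n : ℕ) : ∑ i ∈ Finset.Icc 1 (n - 1), (n - i) = ∑ j ∈ Finset.range n, j := by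
  rw [Finset.sum_nbij' (fun i => n - i) (fun i => n - i) (t := Finset.Icc 1 (n - 1)) (g := fun j => j)
    (fun i hi => by simp only [Finset.mem_Icc, Finset.coe_Icc, Set.mem_Icc] at hi ⊢; omega)
    (fun i hi => by simp only [Finset.mem_Icc, Finset.coe_Icc, Set.mem_Icc] at hi ⊢; omega)
    (fun i hi => by simp only [Finset.mem_Icc, Finset.coe_Icc, Set.mem_Icc] at hi ⊢; omega)
    (fun i hi => by simp only [Finset.mem_Icc, Finset.coe_Icc, Set.mem_Icc] at hi ⊢; omega)
    (fun i _ => rfl)]
  refine Finset.sum_subset (fun i hi => ?_) (fun j hj hj' => ?_)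
  · simp only [Finset.mem_Icc, Finset.mem_range] at hi ⊢; omega
  · simp only [Finset.mem_Icc, Finset.mem_range] at hj hj'; omega

theorem card_pos_eq (n : ℕ) : Fintype.card (Pos n) = ∑ i ∈ Finset.Icc 1 (n - 1), (n - i) := by
  rw [sum_Icc_sub, ← Fin.sum_univ_eq_sum_range (fun j => j) n]
  let e : Pos n ≃ Σ j : Fin n, Fin (j : ℕ) :=
    { toFun := fun x => ⟨x.1.2, ⟨x.1.1, x.2⟩⟩
      invFun := fun x => ⟨(⟨x.2, x.2.isLt.trans x.1.isLt⟩, x.1), x.2.isLt⟩
      left_inv := fun x => rfl
      right_inv := fun x => rfl }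
  rw [Fintype.card_congr e, Fintype.card_sigma]
  simp

section Degrees

variable {σ τ : Type*}

/-- Substitutions of affine polynomials only lower degrees, and only the linear parts matter on top. -/
theorem bind_monomial (a b : σ → MvPolynomial τ F) (hb : ∀ i, (b i).totalDegree ≤ 1)
    (hd : ∀ i, (a i - b i).totalDegree = 0) (s : σ →₀ ℕ) (c : F) :
    (bind₁ a (monomial s c)).totalDegree ≤ (s.sum fun _ e => e) ∧
    (bind₁ b (monomial s c)).totalDegree ≤ (s.sum fun _ e => e) ∧
      ((bind₁ a (monomial s c) - bind₁ b (monomial s c)).totalDegree < (s.sum fun _ e => e) ∨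
        bind₁ a (monomial s c) = bind₁ b (monomial s c)) := by
  classical
  have ha : ∀ i, (a i).totalDegree ≤ 1 := fun i => by
    have h := totalDegree_add (a i - b i) (b i)
    rw [sub_add_cancel, hd] at h
    exact h.trans (max_le (Nat.zero_le _) (hb i))
  induction s using Finsupp.induction with
  | zero => simp
  | single_add i k s hi hk ih =>
    have hsum : ((Finsupp.single i k + s).sum fun _ e => e) = k + s.sum fun _ e => e := by
      rw [Finsupp.sum_add_index' (fun _ => rfl) (fun _ _ _ => rfl), Finsupp.sum_single_index rfl]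
    rw [hsum, monomial_single_add]
    simp only [map_mul, map_pow, bind₁_X_right]
    clear hsum hi hk
    set x := bind₁ a (monomial s c) with hx
    set y := bind₁ b (monomial s c) with hy
    clear_value x y
    clear hx hy
    induction k with
    | zero => simpa using ih
    | succ k ihk =>
      obtain ⟨h1, h2, h3⟩ := ihk
      refine ⟨?_, ?_, ?_⟩
      · rw [pow_succ', mul_assoc]
        exact (totalDegree_mul _ _).trans ((add_le_add (ha i) h1).trans (by omega))
      · rw [pow_succ', mul_assoc]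
        exact (totalDegree_mul _ _).trans ((add_le_add (hb i) h2).trans (by omega))
      · left
        rw [show a i ^ (k + 1) * x - b i ^ (k + 1) * y =
          (a i - b i) * (a i ^ k * x) + b i * (a i ^ k * x - b i ^ k * y) by ring]
        refine lt_of_le_of_lt (totalDegree_add _ _) (max_lt ?_ ?_)
        · refine lt_of_le_of_lt ((totalDegree_mul _ _).trans (add_le_add (hd i).le h1)) (by omega)
        · rcases h3 with h3 | h3
          · exact lt_of_le_of_lt (totalDegree_mul _ _) (lt_of_le_of_lt (add_le_add (hb i) le_rfl) (by omega))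
          · rw [h3, sub_self, mul_zero, totalDegree_zero]; omega

theorem bind_totalDegree (a b : σ → MvPolynomial τ F) (hb : ∀ i, (b i).totalDegree ≤ 1)
    (hd : ∀ i, (a i - b i).totalDegree = 0) (P : MvPolynomial σ F) {d : ℕ} (hP : P.totalDegree ≤ d)
    (h0 : 0 < d) :
    (bind₁ a P).totalDegree ≤ P.totalDegree ∧ (bind₁ a P - bind₁ b P).totalDegree < d := by
  classical
  have hle : ∀ v ∈ P.support, (v.sum fun _ e => e) ≤ P.totalDegree := fun v hv => le_totalDegree hv
  constructor
  · conv_lhs => rw [P.as_sum, map_sum]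
    exact (totalDegree_finsetSum _ _).trans
      (Finset.sup_le fun v hv => (bind_monomial a b hb hd v _).1.trans (hle v hv))
  · conv_lhs => rw [P.as_sum, map_sum, map_sum, ← Finset.sum_sub_distrib]
    refine lt_of_le_of_lt (totalDegree_finsetSum _ _) ((Finset.sup_lt_iff h0).mpr fun v hv => ?_)
    rcases (bind_monomial a b hb hd v _).2.2 with h | h
    · exact lt_of_lt_of_le h ((hle v hv).trans hP)
    · rw [h, sub_self, totalDegree_zero]; exact h0

theorem prod_sub_prod {ι : Type*} (s : Finset ι) (a b : ι → MvPolynomial σ F) (d : ι → ℕ)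
    (ha : ∀ i ∈ s, (a i).totalDegree ≤ d i) (hb : ∀ i ∈ s, (b i).totalDegree ≤ d i)
    (hab : ∀ i ∈ s, (a i - b i).totalDegree < d i) :
    (∏ i ∈ s, a i).totalDegree ≤ ∑ i ∈ s, d i ∧ (∏ i ∈ s, b i).totalDegree ≤ ∑ i ∈ s, d i ∧
      ((∏ i ∈ s, a i - ∏ i ∈ s, b i).totalDegree < ∑ i ∈ s, d i ∨ ∏ i ∈ s, a i = ∏ i ∈ s, b i) := by
  classical
  induction s using Finset.induction_on with
  | empty => simp
  | @insert i s hi ih =>
    rw [Finset.prod_insert hi, Finset.prod_insert hi, Finset.sum_insert hi]
    have hai := ha i (Finset.mem_insert_self i s)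
    have hbi := hb i (Finset.mem_insert_self i s)
    have habi := hab i (Finset.mem_insert_self i s)
    obtain ⟨h1, h2, h3⟩ := ih (fun j hj => ha j (Finset.mem_insert_of_mem hj))
      (fun j hj => hb j (Finset.mem_insert_of_mem hj)) (fun j hj => hab j (Finset.mem_insert_of_mem hj))
    refine ⟨(totalDegree_mul _ _).trans (by omega), (totalDegree_mul _ _).trans (by omega), Or.inl ?_⟩
    rw [show a i * ∏ j ∈ s, a j - b i * ∏ j ∈ s, b j =
      (a i - b i) * (∏ j ∈ s, a j) + b i * (∏ j ∈ s, a j - ∏ j ∈ s, b j) by ring]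
    refine lt_of_le_of_lt (totalDegree_add _ _) (max_lt ?_ ?_)
    · exact lt_of_le_of_lt (totalDegree_mul _ _) (by omega)
    · rcases h3 with h3 | h3
      · exact lt_of_le_of_lt (totalDegree_mul _ _) (by omega)
      · rw [h3, sub_self, mul_zero, totalDegree_zero]; omega

theorem one_sub_pow_sub (E : MvPolynomial σ F) (c : F) {m e : ℕ} (hm : 0 < m) (he : 0 < e)
    (hE : E.totalDegree ≤ e) :
    (1 - (E - C c) ^ m).totalDegree ≤ m * e ∧ (-(E ^ m)).totalDegree ≤ m * e ∧
      (1 - (E - C c) ^ m - -(E ^ m)).totalDegree < m * e := by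
  have hEc : (E - C c).totalDegree ≤ e := (totalDegree_sub _ _).trans (max_le hE (by simp))
  have h1 : ((E - C c) ^ m).totalDegree ≤ m * e :=
    (totalDegree_pow _ _).trans (Nat.mul_le_mul_left _ hEc)
  refine ⟨(totalDegree_sub _ _).trans (max_le (by simp) h1), ?_, ?_⟩
  · rw [totalDegree_neg]; exact (totalDegree_pow _ _).trans (Nat.mul_le_mul_left _ hE)
  · have hgeo : E ^ m - (E - C c) ^ m = C c * ∑ i ∈ Finset.range m, E ^ i * (E - C c) ^ (m - 1 - i) := by
      rw [← (Commute.all E (E - C c)).mul_geom_sum₂, sub_sub_cancel]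
    rw [show 1 - (E - C c) ^ m - -(E ^ m) = 1 + (E ^ m - (E - C c) ^ m) by ring, hgeo]
    have hpos : 0 < m * e := Nat.mul_pos hm he
    refine lt_of_le_of_lt (totalDegree_add _ _) (max_lt (by simpa using hpos) ?_)
    refine lt_of_le_of_lt (totalDegree_mul _ _) ?_
    rw [totalDegree_C, zero_add]
    refine lt_of_le_of_lt (totalDegree_finsetSum _ _) ((Finset.sup_lt_iff hpos).mpr fun i hi => ?_)
    refine lt_of_le_of_lt ((totalDegree_mul _ _).trans (add_le_add
      ((totalDegree_pow _ _).trans (Nat.mul_le_mul_left _ hE))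
      ((totalDegree_pow _ _).trans (Nat.mul_le_mul_left _ hEc)))) ?_
    rw [← Nat.add_mul]
    rw [Finset.mem_range] at hi
    exact Nat.mul_lt_mul_of_pos_right (by omega) he

end Degrees

variable [Fintype F] [DecidableEq F]

open Classical in
/-- The number of `w` with prescribed inner coefficients is independent of the data in `F`. -/
theorem exists_count (hn : 2 ≤ n) : ∃ K : F, ∀ (α : Fin n → F) (f : ℕ → F),
    (((Finset.univ : Finset (Pos n → F)).filter fun w =>
      ∀ i ∈ Finset.Icc 1 (n - 1), (antiMat α w).charpoly.coeff i = f i).card : F) = K := by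
  set m := Fintype.card F - 1 with hm
  have hm0 : 0 < m := by have := Fintype.one_lt_card (α := F); omega
  let E : ℕ → MvPolynomial (Fin n × Fin n) F := fun i => (Matrix.charpoly.univ F (Fin n)).coeff i
  let lin' : Fin n × Fin n → MvPolynomial (Pos n) F := fun ik =>
    if h : ik.1 < Fin.rev ik.2 then X ⟨(ik.1, Fin.rev ik.2), h⟩ else 0
  let aff : (Fin n → F) → Fin n × Fin n → MvPolynomial (Pos n) F := fun α ik =>
    lin' ik + C (if ik.1 = Fin.rev ik.2 then α ik.2 else 0)
  let G0 : MvPolynomial (Fin n × Fin n) F := ∏ i ∈ Finset.Icc 1 (n - 1), -(E i ^ m)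
  refine ⟨∑ w : Pos n → F, eval w (bind₁ lin' G0), fun α f => ?_⟩
  have hlin : ∀ ik, (lin' ik).totalDegree ≤ 1 := fun ik => by
    simp only [lin']
    split_ifs
    · exact (totalDegree_X _).le
    · simp
  have hdiff : ∀ ik, (aff α ik - lin' ik).totalDegree = 0 := fun ik => by
    simp only [aff, add_sub_cancel_left, totalDegree_C]
  have heval : ∀ (w : Pos n → F) (i : ℕ),
      eval w (bind₁ (aff α) (E i)) = (antiMat α w).charpoly.coeff i := by
    intro w i
    have h1 : eval w (bind₁ (aff α) (E i)) = eval (fun ik => eval w (aff α ik)) (E i) :=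
      eval₂Hom_bind₁ _ _ _ _
    have h2 : (fun ik : Fin n × Fin n => eval w (aff α ik)) = fun ik => antiMat α w ik.1 ik.2 := by
      funext ik
      simp only [aff, lin', antiMat, map_add, eval_C]
      by_cases h : ik.1 < Fin.rev ik.2
      · rw [dif_pos h, dif_pos h, eval_X, if_neg h.ne, add_zero]
      · rw [dif_neg h, dif_neg h, map_zero, zero_add]
    rw [h1, h2]
    exact Matrix.charpoly.univ_coeff_eval₂Hom (Fin n) (RingHom.id F) (fun ik => antiMat α w ik.1 ik.2) i
  let Gf : MvPolynomial (Fin n × Fin n) F := ∏ i ∈ Finset.Icc 1 (n - 1), (1 - (E i - C (f i)) ^ m)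
  have hcount : (((Finset.univ : Finset (Pos n → F)).filter fun w =>
      ∀ i ∈ Finset.Icc 1 (n - 1), (antiMat α w).charpoly.coeff i = f i).card : F) =
      ∑ w : Pos n → F, eval w (bind₁ (aff α) Gf) := by
    rw [Finset.card_filter, Nat.cast_sum]
    refine Finset.sum_congr rfl fun w _ => ?_
    simp only [Gf, map_prod, map_sub, map_one, map_pow, bind₁_C_right, eval_C, heval]
    by_cases h : ∀ i ∈ Finset.Icc 1 (n - 1), (antiMat α w).charpoly.coeff i = f i
    · rw [if_pos h, Nat.cast_one, Finset.prod_eq_one]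
      intro i hi
      rw [h i hi, sub_self, zero_pow hm0.ne', sub_zero]
    · rw [if_neg h, Nat.cast_zero]
      push Not at h
      obtain ⟨i, hi, hne⟩ := h
      refine (Finset.prod_eq_zero hi ?_).symm
      rw [hm, FiniteField.pow_card_sub_one_eq_one _ (sub_ne_zero.mpr hne), sub_self]
  have hE : ∀ i ∈ Finset.Icc 1 (n - 1), (E i).totalDegree ≤ n - i := fun i hi => by
    rw [Finset.mem_Icc] at hi
    exact (Matrix.charpoly.univ_coeff_isHomogeneous F (Fin n) i (n - i)
      (by rw [Fintype.card_fin]; omega)).totalDegree_le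
  have hei : ∀ i ∈ Finset.Icc 1 (n - 1), 0 < n - i := fun i hi => by rw [Finset.mem_Icc] at hi; omega
  obtain ⟨hGf, hG0, hG⟩ := prod_sub_prod (Finset.Icc 1 (n - 1)) (fun i => 1 - (E i - C (f i)) ^ m)
    (fun i => -(E i ^ m)) (fun i => m * (n - i))
    (fun i hi => (one_sub_pow_sub (E i) (f i) hm0 (hei i hi) (hE i hi)).1)
    (fun i hi => (one_sub_pow_sub (E i) (f i) hm0 (hei i hi) (hE i hi)).2.1)
    (fun i hi => (one_sub_pow_sub (E i) (f i) hm0 (hei i hi) (hE i hi)).2.2)
  rw [← Finset.mul_sum, ← card_pos_eq] at hGf hG0 hG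
  have hpos : 0 < m * Fintype.card (Pos n) := by
    refine Nat.mul_pos hm0 (Fintype.card_pos_iff.mpr ⟨⟨(⟨0, by omega⟩, ⟨1, by omega⟩), ?_⟩⟩)
    exact Fin.mk_lt_mk.mpr Nat.zero_lt_one
  have hsub : ∀ P Q : MvPolynomial (Pos n) F, (P - Q).totalDegree < m * Fintype.card (Pos n) →
      ∑ w : Pos n → F, eval w P = ∑ w : Pos n → F, eval w Q := by
    intro P Q h
    rw [← sub_eq_zero, ← Finset.sum_sub_distrib]
    refine Eq.trans (Finset.sum_congr rfl fun w _ => (map_sub (eval w) P Q).symm) ?_
    exact sum_eval_eq_zero _ h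
  rw [hcount]
  refine (hsub _ _ ?_).trans (hsub (bind₁ (aff α) G0) _ ?_)
  · rw [← map_sub]
    have hlt : (Gf - G0).totalDegree < m * Fintype.card (Pos n) := by
      rcases hG with h | h
      · exact h
      · rw [show Gf - G0 = 0 from sub_eq_zero.mpr h, totalDegree_zero]; exact hpos
    exact lt_of_le_of_lt (bind_totalDegree (aff α) lin' hlin hdiff (Gf - G0) hlt.le hpos).1 hlt
  · exact (bind_totalDegree (aff α) lin' hlin hdiff G0 hG0 hpos).2

end Cfsg.Agent.SLDefect
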