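import Cfsg.Agent.SLDefect.Pairing
import Cfsg.Agent.SLDefect.Count
import Cfsg.Agent.GLFlag.Bruhat
import Cfsg.Agent.CrossChar56.SemisimpleClasses
import Cfsg.Agent.Lib.LinearGroup.Card
import Cfsg.Agent.Lib.CharCore.Basic
import Cfsg.Agent.S2544

/-!
# The character of defect zero of `SL_n(q)` in the defining characteristic
-/

set_option autoImplicit false

namespace Cfsg.Agent.SLDefect

open Matrix BlocksCore Cfsg.Agent.GLFlag
open scoped MatrixGroups

variable {F : Type*} [Field F] {n : ℕ} {p : ℕ}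

section Uni

variable [Finite F]

/-- The upper unitriangular group. -/
def uni (F : Type*) [Field F] [Finite F] (n : ℕ) : Subgroup (Matrix.SpecialLinearGroup (Fin n) F) :=
  { carrier := {g | ∀ i j, j ≤ i → (g : Matrix (Fin n) (Fin n) F) i j = (1 : Matrix (Fin n) (Fin n) F) i j}
    one_mem' := fun _ _ _ => by simp
    mul_mem' := fun {a b} ha hb i j hij => by
      rw [Matrix.SpecialLinearGroup.coe_mul, Matrix.mul_apply, Finset.sum_eq_single i]
      · rw [ha i i le_rfl, hb i j hij, Matrix.one_apply_eq, one_mul]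
      · intro k _ hk
        rcases lt_or_gt_of_ne hk with h | h
        · rw [ha i k h.le, Matrix.one_apply_ne h.ne', zero_mul]
        · rw [hb k j (hij.trans h.le), Matrix.one_apply_ne (hij.trans_lt h).ne', mul_zero]
      · exact fun h => absurd (Finset.mem_univ i) h
    inv_mem' := fun {a} ha => by
      rw [inv_eq_of_mul_eq_one_right (show a * a ^ (orderOf a - 1) = 1 by
        rw [← pow_succ', Nat.sub_add_cancel (orderOf_pos a), pow_orderOf_eq_one])]
      induction orderOf a - 1 with
      | zero => intro i j _; simp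
      | succ k ih =>
        intro i j hij
        rw [pow_succ', Matrix.SpecialLinearGroup.coe_mul, Matrix.mul_apply, Finset.sum_eq_single i]
        · rw [ha i i le_rfl, ih i j hij, Matrix.one_apply_eq, one_mul]
        · intro k' _ hk
          rcases lt_or_gt_of_ne hk with h | h
          · rw [ha i k' h.le, Matrix.one_apply_ne h.ne', zero_mul]
          · rw [ih k' j (hij.trans h.le), Matrix.one_apply_ne (hij.trans_lt h).ne', mul_zero]
        · exact fun h => absurd (Finset.mem_univ i) h }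

theorem mem_uni {g : Matrix.SpecialLinearGroup (Fin n) F} :
    g ∈ uni F n ↔
      ∀ i j, j ≤ i → (g : Matrix (Fin n) (Fin n) F) i j = (1 : Matrix (Fin n) (Fin n) F) i j :=
  Iff.rfl

omit [Finite F] in
theorem det_uniMatrix {A : Matrix (Fin n) (Fin n) F}
    (h : ∀ i j, j ≤ i → A i j = (1 : Matrix (Fin n) (Fin n) F) i j) : A.det = 1 := by
  rw [Matrix.det_of_upperTriangular fun i j hij =>
    (h i j (le_of_lt hij)).trans (Matrix.one_apply_ne (ne_of_gt hij))]
  exact Finset.prod_eq_one fun i _ => by rw [h i i le_rfl, Matrix.one_apply_eq]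

/-- The coordinates of a unitriangular matrix. -/
def uniEquiv (F : Type*) [Field F] [Finite F] (n : ℕ) : uni F n ≃ (Pos n → F) where
  toFun u x := ((u : Matrix.SpecialLinearGroup (Fin n) F) : Matrix (Fin n) (Fin n) F) x.1.1 x.1.2
  invFun w := ⟨⟨fun i j => if h : i < j then w ⟨(i, j), h⟩ else if i = j then 1 else 0,
    det_uniMatrix fun i j hij => by rw [dif_neg (not_lt.mpr hij), Matrix.one_apply]⟩,
    fun i j hij => by
      show (if h : i < j then w ⟨(i, j), h⟩ else if i = j then 1 else 0) = _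
      rw [dif_neg (not_lt.mpr hij), Matrix.one_apply]⟩
  left_inv u := by
    refine Subtype.ext (Subtype.ext ?_)
    ext i j
    show (if h : i < j then _ else if i = j then 1 else 0) = _
    by_cases h : i < j
    · rw [dif_pos h]
    · rw [dif_neg h, u.2 i j (not_lt.mp h), Matrix.one_apply]
  right_inv w := by
    funext x
    show (if h : x.1.1 < x.1.2 then w ⟨(x.1.1, x.1.2), h⟩ else _) = w x
    rw [dif_pos x.2]

theorem card_uni : Nat.card (uni F n) = Nat.card F ^ (∑ i : Fin n, (i : ℕ)) := by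
  rw [Nat.card_congr (uniEquiv F n), Nat.card_fun, Nat.card_eq_fintype_card (α := Pos n), card_pos_eq,
    sum_Icc_sub, Fin.sum_univ_eq_sum_range (fun i => i) n]

theorem isPGroup_uni [hp : Fact p.Prime] [CharP F p] : IsPGroup p (uni F n) := by
  haveI := Fintype.ofFinite F
  obtain ⟨f, -, hf⟩ := FiniteField.card F p
  refine IsPGroup.of_card (n := (f : ℕ) * ∑ i : Fin n, (i : ℕ)) ?_
  rw [card_uni, Nat.card_eq_fintype_card, hf, ← pow_mul]

theorem not_dvd_index_uni [hp : Fact p.Prime] [CharP F p] (hn : 0 < n) : ¬ p ∣ (uni F n).index := by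
  haveI := Fintype.ofFinite F
  obtain ⟨m, rfl⟩ : ∃ m, n = m + 1 := ⟨n - 1, by omega⟩
  have h := LinearGroup.card_SL_eq_pow_mul_prod (F := F) m
  rw [← (uni F (m + 1)).card_mul_index, card_uni] at h
  rw [Nat.eq_of_mul_eq_mul_left (pow_pos Nat.card_pos _) h]
  intro hdvd
  obtain ⟨i, -, hi⟩ := (hp.out.prime.dvd_finsetProd_iff _).mp hdvd
  obtain ⟨f, -, hf⟩ := FiniteField.card F p
  have hq : p ∣ Nat.card F ^ (i + 2) := by
    rw [Nat.card_eq_fintype_card, hf, ← pow_mul]
    exact dvd_pow_self p (Nat.mul_ne_zero f.ne_zero (by omega))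
  have h1 := Nat.dvd_sub hq hi
  rw [Nat.sub_sub_self (Nat.one_le_pow _ _ Nat.card_pos)] at h1
  exact hp.out.not_dvd_one h1

end Uni

theorem diag_mul {A B : Matrix (Fin n) (Fin n) F} (hA : ∀ i j : Fin n, j < i → A i j = 0)
    (hB : ∀ i j : Fin n, j < i → B i j = 0) (i : Fin n) : (A * B) i i = A i i * B i i := by
  rw [Matrix.mul_apply, Finset.sum_eq_single i]
  · intro k _ hk
    rcases lt_or_gt_of_ne hk with h | h
    · rw [hA i k h, zero_mul]
    · rw [hB k i h, mul_zero]
  · exact fun h => absurd (Finset.mem_univ i) h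

/-- The permutation in the Bruhat cell of an element moving `U` to an opposite group. -/
theorem eq_rev_of_icard [Fintype F] [Fintype (uni F n)] {g : Matrix.SpecialLinearGroup (Fin n) F}
    (hg : icard (uni F n) g = 1) {σ : Equiv.Perm (Fin n)} {b₁ b₂ : GL (Fin n) F}
    (h₁ : b₁ ∈ Cfsg.upperTriangularGL n F) (h₂ : b₂ ∈ Cfsg.upperTriangularGL n F)
    (e : Matrix.SpecialLinearGroup.toGL g = b₁ * permGL F σ * b₂) : σ = Fin.revPerm := by
  classical
  by_contra hne
  obtain ⟨i, j, hij, hσij⟩ : ∃ i j, i < j ∧ σ i < σ j := by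
    by_contra hc
    push Not at hc
    refine hne ?_
    have hmono : StrictMono (σ ∘ Fin.rev) := fun a b hab =>
      lt_of_le_of_ne (hc _ _ (Fin.rev_lt_rev.2 hab))
        (fun h => hab.ne (Fin.rev_injective (σ.injective h)))
    have h := (hmono.range_inj (strictMono_id (α := Fin n))).1 (by
      rw [Set.range_id, Function.Surjective.range_eq (σ.surjective.comp Fin.rev_surjective)])
    ext a : 1
    have := congrFun h (Fin.rev a)
    simpa [Function.comp] using this
  have hd : ∀ a b : Fin n, a ≠ b → (Pi.single b 1 : Fin n → F) ⬝ᵥ Pi.single a 1 = 0 := by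
    intro a b hab; simp [hab]
  let IsUni : GL (Fin n) F → Prop := fun X => X ∈ Cfsg.upperTriangularGL n F ∧
    ∀ k, (X : Matrix (Fin n) (Fin n) F) k k = 1
  have hconjUni : ∀ (b X : GL (Fin n) F), b ∈ Cfsg.upperTriangularGL n F → IsUni X →
      IsUni (b * X * b⁻¹) := by
    intro b X hb hX
    refine ⟨mul_mem (mul_mem hb hX.1) (inv_mem hb), fun k => ?_⟩
    rw [Units.val_mul, diag_mul (mem_upper.1 (mul_mem hb hX.1)) (mem_upper.1 (inv_mem hb)), Units.val_mul,
      diag_mul (mem_upper.1 hb) (mem_upper.1 hX.1), hX.2, mul_one,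
      ← diag_mul (mem_upper.1 hb) (mem_upper.1 (inv_mem hb)), ← Units.val_mul, mul_inv_cancel, Units.val_one,
      Matrix.one_apply_eq]
  have hTuni : ∀ a b : Fin n, ∀ hab : a < b,
      IsUni (rankOneUnit (Pi.single a (1 : F)) (Pi.single b 1) (hd _ _ hab.ne)) := fun a b hab =>
    ⟨rankOneUnit_mem_upper _ _ _ fun u v huv => by
      by_cases h1 : u = a
      · by_cases h2 : v = b
        · subst h1; subst h2; exact absurd huv (lt_asymm hab)
        · simp [h2]
      · simp [h1],
    fun k => by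
      by_cases h1 : k = a
      · subst h1; simp [rankOneUnit, vecMulVec_apply, hab.ne]
      · simp [rankOneUnit, vecMulVec_apply, h1]⟩
  set T := rankOneUnit (Pi.single (σ i) (1 : F)) (Pi.single (σ j) 1) (hd _ _ hσij.ne) with hT
  set T' := rankOneUnit (Pi.single i (1 : F)) (Pi.single j 1) (hd _ _ hij.ne) with hT'
  have hconj : permGL F σ * T' = T * permGL F σ := by
    refine Units.ext (Matrix.ext fun a c => ?_)
    rw [Units.val_mul, Units.val_mul, hT', hT,
      mul_rankOneUnit_apply, rankOneUnit_mul_apply, coe_permGL]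
    simp only [permMat_apply, Pi.single_apply, mul_ite, mul_one, mul_zero, ite_mul, one_mul,
      zero_mul, σ.apply_eq_iff_eq]
    congr 1
    by_cases h1 : a = σ i
    · subst h1; simp
    · simp [h1, Ne.symm h1]
  have toUni : ∀ X : GL (Fin n) F, IsUni X →
      ∃ x ∈ uni F n, Matrix.SpecialLinearGroup.toGL x = X := fun X hX => by
    have hX' : ∀ a b : Fin n, b ≤ a →
        (X : Matrix (Fin n) (Fin n) F) a b = (1 : Matrix (Fin n) (Fin n) F) a b := fun a b hba => by
      rcases hba.lt_or_eq with h | rfl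
      · rw [mem_upper.1 hX.1 a b h, Matrix.one_apply_ne h.ne']
      · rw [hX.2, Matrix.one_apply_eq]
    exact ⟨⟨(X : Matrix (Fin n) (Fin n) F), det_uniMatrix hX'⟩, hX', Units.ext rfl⟩
  obtain ⟨x, hx, hxX⟩ := toUni _ (hconjUni b₁ T h₁ (hTuni _ _ hσij))
  obtain ⟨y, hy, hyY⟩ := toUni _ (hconjUni b₂⁻¹ T' (inv_mem h₂) (hTuni _ _ hij))
  have hxy : g⁻¹ * x * g = y := by
    refine Matrix.SpecialLinearGroup.toGL_injective ?_
    rw [map_mul, map_mul, map_inv, e, hxX, hyY]
    calc (b₁ * permGL F σ * b₂)⁻¹ * (b₁ * T * b₁⁻¹) * (b₁ * permGL F σ * b₂)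
        = b₂⁻¹ * ((permGL F σ)⁻¹ * (T * permGL F σ)) * b₂ := by group
      _ = b₂⁻¹ * T' * b₂⁻¹⁻¹ := by rw [← hconj, inv_mul_cancel_left, inv_inv]
  haveI := (Nat.card_eq_one_iff_unique.mp hg).1
  have hsub : (⟨⟨x, hx⟩, hxy ▸ hy⟩ :
      {u : uni F n // g⁻¹ * (u : Matrix.SpecialLinearGroup (Fin n) F) * g ∈ uni F n}) = ⟨1, by simp⟩ :=
    Subsingleton.elim _ _
  have hx1 : x = 1 := congrArg Subtype.val (congrArg Subtype.val hsub)
  have hT1 : T = 1 := by
    rw [hx1, map_one] at hxX
    calc T = b₁⁻¹ * (b₁ * T * b₁⁻¹) * b₁ := by group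
      _ = 1 := by rw [← hxX]; simp
  have := congrArg (fun t : GL (Fin n) F => (t : Matrix (Fin n) (Fin n) F) (σ i) (σ j)) hT1
  simp [hT, rankOneUnit, vecMulVec_apply, Matrix.one_apply, hσij.ne] at this

/-- Elements moving `U` to an opposite group are `U a U` with `a` anti-diagonal. -/
theorem exists_antidiag [Fintype F] [Fintype (uni F n)] {g : Matrix.SpecialLinearGroup (Fin n) F}
    (hg : icard (uni F n) g = 1) :
    ∃ u ∈ uni F n, ∃ v ∈ uni F n, ∃ a : Matrix.SpecialLinearGroup (Fin n) F,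
      g = u * a * v ∧ ∀ i k, i ≠ Fin.rev k → (a : Matrix (Fin n) (Fin n) F) i k = 0 := by
  classical
  obtain ⟨σ, b₁, h₁, b₂, h₂, e⟩ := exists_bruhat (Matrix.SpecialLinearGroup.toGL g)
  obtain rfl := eq_rev_of_icard hg h₁ h₂ e
  set B1 : Matrix (Fin n) (Fin n) F := (b₁ : Matrix (Fin n) (Fin n) F) with hB1
  set B2 : Matrix (Fin n) (Fin n) F := (b₂ : Matrix (Fin n) (Fin n) F) with hB2
  have hne : ∀ b : GL (Fin n) F, b ∈ Cfsg.upperTriangularGL n F →
      ∀ k, (b : Matrix (Fin n) (Fin n) F) k k ≠ 0 := fun b hb k h0 => by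
    have h := diag_mul (mem_upper.1 hb) (mem_upper.1 (inv_mem hb)) k
    rw [← Units.val_mul, mul_inv_cancel, Units.val_one, Matrix.one_apply_eq, h0, zero_mul] at h
    exact one_ne_zero h
  let U1 : Matrix (Fin n) (Fin n) F := fun i j => B1 i j * (B1 j j)⁻¹
  let U2 : Matrix (Fin n) (Fin n) F := fun i j => (B2 i i)⁻¹ * B2 i j
  let A : Matrix (Fin n) (Fin n) F :=
    Matrix.diagonal (fun i => B1 i i) * permMat F Fin.revPerm * Matrix.diagonal (fun i => B2 i i)
  have hU1 : ∀ i j, j ≤ i → U1 i j = (1 : Matrix (Fin n) (Fin n) F) i j := fun i j hji => by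
    rcases hji.lt_or_eq with h | rfl
    · simp only [U1]
      rw [show B1 i j = 0 from mem_upper.1 h₁ i j h, zero_mul, Matrix.one_apply_ne h.ne']
    · simp only [U1]
      rw [mul_inv_cancel₀ (hne b₁ h₁ j), Matrix.one_apply_eq]
  have hU2 : ∀ i j, j ≤ i → U2 i j = (1 : Matrix (Fin n) (Fin n) F) i j := fun i j hji => by
    rcases hji.lt_or_eq with h | rfl
    · simp only [U2]
      rw [show B2 i j = 0 from mem_upper.1 h₂ i j h, mul_zero, Matrix.one_apply_ne h.ne']
    · simp only [U2]
      rw [inv_mul_cancel₀ (hne b₂ h₂ j), Matrix.one_apply_eq]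
  have e1 : U1 * Matrix.diagonal (fun i => B1 i i) = B1 := by
    ext i j
    rw [Matrix.mul_diagonal]
    exact inv_mul_cancel_right₀ (hne b₁ h₁ j) _
  have e2 : Matrix.diagonal (fun i => B2 i i) * U2 = B2 := by
    ext i j
    rw [Matrix.diagonal_mul]
    exact mul_inv_cancel_left₀ (hne b₂ h₂ i) _
  have eg : (g : Matrix (Fin n) (Fin n) F) = U1 * A * U2 := by
    have := congrArg (fun t : GL (Fin n) F => (t : Matrix (Fin n) (Fin n) F)) e
    simp only [Units.val_mul, coe_permGL] at this
    refine this.trans ?_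
    rw [← hB1, ← hB2]
    calc B1 * permMat F Fin.revPerm * B2
        = U1 * Matrix.diagonal (fun i => B1 i i) * permMat F Fin.revPerm *
            (Matrix.diagonal (fun i => B2 i i) * U2) := by rw [e1, e2]
      _ = U1 * A * U2 := by simp only [A, Matrix.mul_assoc]
  have hA : A.det = 1 := by
    have := g.2
    rw [eg, Matrix.det_mul, Matrix.det_mul, det_uniMatrix hU1, det_uniMatrix hU2, one_mul, mul_one] at this
    exact this
  refine ⟨⟨U1, det_uniMatrix hU1⟩, hU1, ⟨U2, det_uniMatrix hU2⟩, hU2, ⟨A, hA⟩, Subtype.ext eg,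
    fun i k hik => ?_⟩
  show A i k = 0
  simp only [A, Matrix.mul_diagonal, Matrix.diagonal_mul, permMat_apply, Fin.revPerm_apply]
  rw [if_neg (Ne.symm hik), mul_zero, zero_mul]

section Values

variable [Fintype F] [Fact p.Prime] [CharP F p] [Fintype (Matrix.SpecialLinearGroup (Fin n) F)]
  {M : Ideal AlgInt}

/-- Modulo `M` a character of defect zero depends only on the characteristic polynomial. -/
theorem memLocalIdeal_of_charpoly (hM : IsPModular p M)
    {χ : IrrCharacter (Matrix.SpecialLinearGroup (Fin n) F)} (hχ : DZ p χ)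
    {x y : Matrix.SpecialLinearGroup (Fin n) F}
    (h : (x : Matrix (Fin n) (Fin n) F).charpoly = (y : Matrix (Fin n) (Fin n) F).charpoly) :
    MemLocalIdeal M ((χ : _ → ℂ) x - (χ : _ → ℂ) y) := by
  have := isPrime hM
  have red : ∀ z : Matrix.SpecialLinearGroup (Fin n) F, ∃ w : Matrix.SpecialLinearGroup (Fin n) F, (orderOf w).Coprime p ∧
      (w : Matrix (Fin n) (Fin n) F).charpoly = (z : Matrix (Fin n) (Fin n) F).charpoly ∧
      MemLocalIdeal M ((χ : _ → ℂ) z - (χ : _ → ℂ) w) := by
    intro z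
    by_cases hz : p ∣ orderOf z
    · obtain ⟨j, hj⟩ := CrossChar56.Semisimple.exists_pow_coprime (F := F) p z
      refine ⟨_, hj, by rw [Matrix.SpecialLinearGroup.coe_pow,
        CrossChar56.Semisimple.charpoly_pow_card_pow], ?_⟩
      rw [vanishes hM hχ hz, zero_sub]
      refine memLocalIdeal_neg (memLocalIdeal_of_dvd_card hM hχ (hz.trans ?_))
      have hm : z ∈ Subgroup.centralizer ({z ^ Fintype.card F ^ j} : Set _) := by
        rw [Subgroup.mem_centralizer_singleton_iff]
        exact (Commute.pow_right rfl _).eq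
      have := orderOf_dvd_natCard (⟨z, hm⟩ : Subgroup.centralizer ({z ^ Fintype.card F ^ j} : Set _))
      rwa [Subgroup.orderOf_mk] at this
    · exact ⟨z, ((Fact.out : p.Prime).coprime_iff_not_dvd.2 hz).symm, rfl,
        by rw [sub_self]; exact memLocalIdeal_zero⟩
  obtain ⟨a, ha, hax, hxa⟩ := red x
  obtain ⟨b, hb, hby, hyb⟩ := red y
  obtain ⟨c, hc⟩ := isConj_iff.mp
    (CrossChar56.Semisimple.sl_isConj p a b ha hb (hax.trans (h.trans hby.symm)))
  have e : χ.1 a = χ.1 b := by rw [← hc, irr_class χ a c]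
  have := memLocalIdeal_sub hxa hyb
  rwa [e, show ∀ s t r : ℂ, s - r - (t - r) = s - t from fun s t r => by ring] at this

/-- The middle coefficients of the characteristic polynomial. -/
noncomputable def key (A : Matrix (Fin n) (Fin n) F) : Finset.Icc 1 (n - 1) → F :=
  fun i => A.charpoly.coeff i

omit [Fintype F] [Fact p.Prime] [CharP F p] [Fintype (Matrix.SpecialLinearGroup (Fin n) F)] in
theorem charpoly_eq_of_key {A B : Matrix (Fin n) (Fin n) F} (hA : A.det = 1) (hB : B.det = 1)
    (h : key A = key B) : A.charpoly = B.charpoly := by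
  ext i
  rcases Nat.eq_zero_or_pos i with rfl | hi0
  · have h3 := hA.trans hB.symm
    rw [Matrix.det_eq_sign_charpoly_coeff A, Matrix.det_eq_sign_charpoly_coeff B] at h3
    exact mul_left_cancel₀ (pow_ne_zero _ (neg_ne_zero.2 one_ne_zero)) h3
  rcases lt_trichotomy i n with hi | rfl | hi
  · exact congrFun h ⟨i, Finset.mem_Icc.mpr ⟨hi0, by omega⟩⟩
  · have e : ∀ C : Matrix (Fin i) (Fin i) F, C.charpoly.coeff i = 1 := fun C => by
      have := C.charpoly_monic
      rwa [Polynomial.Monic, Polynomial.leadingCoeff, C.charpoly_natDegree_eq_dim, Fintype.card_fin] at this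
    rw [e, e]
  · rw [Polynomial.coeff_eq_zero_of_natDegree_lt (by rwa [A.charpoly_natDegree_eq_dim, Fintype.card_fin]),
      Polynomial.coeff_eq_zero_of_natDegree_lt (by rwa [B.charpoly_natDegree_eq_dim, Fintype.card_fin])]

open Classical in
/-- A representative value of `χ` on the elements with given key. -/
noncomputable def rep (χ : IrrCharacter (Matrix.SpecialLinearGroup (Fin n) F))
    (f : Finset.Icc 1 (n - 1) → F) : ℂ :=
  if h : ∃ x : Matrix.SpecialLinearGroup (Fin n) F, key (x : Matrix (Fin n) (Fin n) F) = f then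
    (χ : _ → ℂ) h.choose else 0

open Classical in
/-- The sum of `χ` over `U a` for anti-diagonal `a`, modulo `M`. -/
theorem usum_congr [Fintype (uni F n)] (hM : IsPModular p M)
    {χ : IrrCharacter (Matrix.SpecialLinearGroup (Fin n) F)} (hχ : DZ p χ)
    {a : Matrix.SpecialLinearGroup (Fin n) F}
    (ha : ∀ i k, i ≠ Fin.rev k → (a : Matrix (Fin n) (Fin n) F) i k = 0) :
    ∃ α : Fin n → F, MemLocalIdeal M (usum (uni F n) (χ : _ → ℂ) a -
      ∑ f : Finset.Icc 1 (n - 1) → F, (((Finset.univ : Finset (Pos n → F)).filter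
        fun w => key (antiMat α w) = f).card : ℂ) * rep χ f) := by
  have := isPrime hM
  let α : Fin n → F := fun k => (a : Matrix (Fin n) (Fin n) F) (Fin.rev k) k
  have hα : ∀ k, α k ≠ 0 := fun k hk => by
    refine one_ne_zero (α := F) (a.2.symm.trans (Matrix.det_eq_zero_of_column_eq_zero k fun i => ?_))
    by_cases h : i = Fin.rev k
    · rw [h]; exact hk
    · exact ha i k h
  let e : uni F n ≃ (Pos n → F) := (uniEquiv F n).trans
    (Equiv.piCongrRight fun x => Equiv.mulRight₀ (α (Fin.rev x.1.2)) (hα _))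
  have hmat : ∀ u : uni F n, (((u : Matrix.SpecialLinearGroup (Fin n) F) * a :
      Matrix.SpecialLinearGroup (Fin n) F) : Matrix (Fin n) (Fin n) F) = antiMat α (e u) := by
    intro u
    ext i k
    rw [Matrix.SpecialLinearGroup.coe_mul, Matrix.mul_apply, Finset.sum_eq_single (Fin.rev k)]
    · rw [antiMat]
      by_cases h : i < Fin.rev k
      · rw [dif_pos h]
        show _ = ((u : Matrix.SpecialLinearGroup (Fin n) F) : Matrix (Fin n) (Fin n) F) i (Fin.rev k) *
          α (Fin.rev (Fin.rev k))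
        rw [Fin.rev_rev]
      · rw [dif_neg h, u.2 i _ (not_lt.mp h), Matrix.one_apply]
        by_cases h' : i = Fin.rev k
        · rw [if_pos h', if_pos h', one_mul]
        · rw [if_neg h', if_neg h', zero_mul]
    · exact fun j _ hj => by rw [ha j k hj, mul_zero]
    · exact fun h => absurd (Finset.mem_univ _) h
  refine ⟨α, ?_⟩
  have hs : ∑ f : Finset.Icc 1 (n - 1) → F, (((Finset.univ : Finset (Pos n → F)).filter
      fun w => key (antiMat α w) = f).card : ℂ) * rep χ f =
      ∑ u : uni F n, rep χ (key (antiMat α (e u))) := by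
    rw [e.sum_comp (fun w => rep χ (key (antiMat α w))), ← Finset.sum_fiberwise' Finset.univ
      (fun w : Pos n → F => key (antiMat α w)) (rep χ)]
    refine Finset.sum_congr rfl fun f _ => ?_
    rw [Finset.sum_const, nsmul_eq_mul]
  rw [hs, usum, ← Finset.sum_sub_distrib]
  refine memLocalIdeal_sum fun u _ => ?_
  have hex : ∃ x : Matrix.SpecialLinearGroup (Fin n) F,
      key (x : Matrix (Fin n) (Fin n) F) = key (antiMat α (e u)) :=
    ⟨(u : Matrix.SpecialLinearGroup (Fin n) F) * a, by rw [hmat]⟩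
  rw [rep, dif_pos hex]
  refine memLocalIdeal_of_charpoly hM hχ (charpoly_eq_of_key
    ((u : Matrix.SpecialLinearGroup (Fin n) F) * a).2 hex.choose.2 ?_)
  rw [hmat]
  exact hex.choose_spec.symm

/-- Natural numbers equal in `F` are congruent modulo `M`. -/
theorem memLocalIdeal_natCast_sub (hM : IsPModular p M) {a b : ℕ} (h : (a : F) = b) :
    MemLocalIdeal M ((a : ℂ) - b) := by
  have := isPrime hM
  have hp1 : 1 ≤ p := (Fact.out : p.Prime).one_lt.le
  have hd : p ∣ a + (p - 1) * b := by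
    rw [← CharP.cast_eq_zero_iff F p, Nat.cast_add, Nat.cast_mul, Nat.cast_sub hp1, h, CharP.cast_eq_zero F p]
    ring
  have := memLocalIdeal_sub ((memLocalIdeal_natCast_iff hM _).mpr hd)
    ((memLocalIdeal_natCast_iff hM _).mpr (dvd_mul_right p b))
  rwa [show ((a + (p - 1) * b : ℕ) : ℂ) - ((p * b : ℕ) : ℂ) = (a : ℂ) - b by
    rw [Nat.cast_add, Nat.cast_mul, Nat.cast_mul, Nat.cast_sub hp1]; ring] at this

/-- There is at most one character of defect zero. -/
theorem eq_of_DZ (hn : 2 ≤ n) (hM : IsPModular p M)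
    {χ ψ : IrrCharacter (Matrix.SpecialLinearGroup (Fin n) F)} (hχ : DZ p χ) (hψ : DZ p ψ) : χ = ψ := by
  classical
  haveI : Fintype (uni F n) := Fintype.ofFinite _
  have := isPrime hM
  refine eq_of_defect_zero hM isPGroup_uni (not_dvd_index_uni (by omega)) (fun φ hφ g h hg hh => ?_) hχ hψ
  obtain ⟨u, hu, v, hv, a, rfl, ha⟩ := exists_antidiag hg
  obtain ⟨u', hu', v', hv', b, rfl, hb⟩ := exists_antidiag hh
  rw [usum_mul _ _ hu hv, usum_mul _ _ hu' hv']
  obtain ⟨α, hα⟩ := usum_congr hM hφ ha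
  obtain ⟨β, hβ⟩ := usum_congr hM hφ hb
  obtain ⟨K, hK⟩ := exists_count (F := F) hn
  have hN : ∀ (γ : Fin n → F) (f : Finset.Icc 1 (n - 1) → F),
      ((((Finset.univ : Finset (Pos n → F)).filter fun w => key (antiMat γ w) = f).card : ℕ) : F) = K := by
    intro γ f
    rw [← hK γ (fun i => if h : i ∈ Finset.Icc 1 (n - 1) then f ⟨i, h⟩ else 0)]
    congr 2
    ext w
    simp only [Finset.mem_filter, Finset.mem_univ, true_and]
    refine ⟨fun e i hi => ?_, fun e => funext fun i => ?_⟩
    · rw [dif_pos hi]; exact congrFun e ⟨i, hi⟩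
    · exact (e i i.2).trans (by rw [dif_pos i.2])
  have hmid : MemLocalIdeal M
      (∑ f : Finset.Icc 1 (n - 1) → F, (((Finset.univ : Finset (Pos n → F)).filter
        fun w => key (antiMat α w) = f).card : ℂ) * rep φ f -
      ∑ f : Finset.Icc 1 (n - 1) → F, (((Finset.univ : Finset (Pos n → F)).filter
        fun w => key (antiMat β w) = f).card : ℂ) * rep φ f) := by
    rw [← Finset.sum_sub_distrib]
    refine memLocalIdeal_sum fun f _ => ?_
    rw [← sub_mul]
    refine memLocalIdeal_mul_right (memLocalIdeal_natCast_sub hM ((hN α f).trans (hN β f).symm)) ?_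
    rw [rep]
    split_ifs with h
    · exact memLocalRing_of_isIntegral (isIntegral_irr φ _)
    · exact (localRing M).zero_mem
  have := memLocalIdeal_add (memLocalIdeal_sub hα hβ) hmid
  rwa [show ∀ x y S T : ℂ, x - S - (y - T) + (S - T) = x - y from fun x y S T => by ring] at this

omit [Fintype (Matrix.SpecialLinearGroup (Fin n) F)] in
/-- The Steinberg character has defect zero. -/
theorem exists_DZ (hn : 2 ≤ n) : ∃ χ : IrrCharacter (Matrix.SpecialLinearGroup (Fin n) F), DZ p χ := by
  classical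
  haveI : Nonempty (Fin n) := ⟨⟨0, by omega⟩⟩
  obtain ⟨θ, hθ, hP⟩ := S2544.result (F := F) p n hn
  let π : Matrix.SpecialLinearGroup (Fin n) F →* Matrix.ProjectiveSpecialLinearGroup (Fin n) F :=
    QuotientGroup.mk' _
  haveI : Finite (Matrix.SpecialLinearGroup (Fin n) F) := inferInstance
  haveI : Finite (Matrix.ProjectiveSpecialLinearGroup (Fin n) F) :=
    Finite.of_surjective π (QuotientGroup.mk'_surjective _)
  refine ⟨⟨_, CharCore.isIrrCharacter_comp_surjective hθ π (QuotientGroup.mk'_surjective _)⟩, ?_⟩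
  have hdeg := irr_one_eq (⟨_, CharCore.isIrrCharacter_comp_surjective hθ π
    (QuotientGroup.mk'_surjective _)⟩ : IrrCharacter (Matrix.SpecialLinearGroup (Fin n) F))
  let P : Sylow p (Matrix.ProjectiveSpecialLinearGroup (Fin n) F) := default
  change θ (π 1) = _ at hdeg
  rw [map_one, (hP P).1, Nat.cast_inj, P.card_eq_multiplicity] at hdeg
  rw [DZ, ← hdeg]
  have hgcd : ¬ p ∣ Nat.gcd (Fintype.card (Fin n)) (Nat.card F - 1) := by
    intro h
    obtain ⟨f, -, hf⟩ := FiniteField.card F p
    have hq : p ∣ Nat.card F := by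
      rw [Nat.card_eq_fintype_card, hf]
      exact dvd_pow_self p f.ne_zero
    have h1 := Nat.dvd_sub hq (h.trans (Nat.gcd_dvd_right _ _))
    rw [Nat.sub_sub_self Nat.card_pos] at h1
    exact (Fact.out : p.Prime).not_dvd_one h1
  have e := LinearGroup.gcd_mul_card_PSL (F := F) (n := Fin n)
  have hfac : (Nat.card (Matrix.ProjectiveSpecialLinearGroup (Fin n) F)).factorization p =
      (Nat.card (Matrix.SpecialLinearGroup (Fin n) F)).factorization p := by
    rw [← e, Nat.factorization_mul (fun h0 => hgcd (by rw [h0]; exact dvd_zero p)) Nat.card_pos.ne', Finsupp.add_apply,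
      Nat.factorization_eq_zero_of_not_dvd hgcd, zero_add]
  rw [hfac]
  exact Nat.not_dvd_ordCompl (Fact.out : p.Prime) Nat.card_pos.ne'

end Values

end Cfsg.Agent.SLDefect
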