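import Cfsg.Agent.Lib.BlocksCore.DefectZero

/-!
# Characters of defect zero and sums over translates of a p-subgroup

For a subgroup `U` of `G` and a character `χ` put `usum U χ h = ∑ u ∈ U, χ (u h)`. If `U` is a Sylow
`p`-subgroup and, for every character of defect zero, these sums are congruent modulo the local ideal
at all `h` with `U ∩ hUh⁻¹ = 1`, then there is at most one character of defect zero.
-/

set_option autoImplicit false

namespace Cfsg.Agent.SLDefect

open BlocksCore MulAction

section Orbits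

variable {A X : Type*} [Group A] [Fintype A] [MulAction A X] [Fintype X]
  [Fintype (orbitRel.Quotient A X)]

set_option linter.unusedSectionVars false

theorem natCard_orbit_mul (x : X) :
    Nat.card (MulAction.orbit A x) * Nat.card (MulAction.stabilizer A x) = Nat.card A := by
  classical
  have h := MulAction.card_orbit_mul_card_stabilizer_eq_card_group A x
  simpa [Nat.card_eq_fintype_card] using h

/-- Summing an invariant function weighted by the stabiliser orders. -/
theorem sum_stabilizer_smul (F : X → ℂ) (hF : ∀ (a : A) (x : X), F (a • x) = F x) :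
    ∑ x, (Nat.card (MulAction.stabilizer A x) : ℂ) * F x =
      (Nat.card A : ℂ) * ∑ ω : orbitRel.Quotient A X, F ω.out := by
  classical
  rw [← Fintype.sum_equiv (selfEquivSigmaOrbits A X).symm
    (fun y => (Nat.card (MulAction.stabilizer A ((selfEquivSigmaOrbits A X).symm y)) : ℂ) *
      F ((selfEquivSigmaOrbits A X).symm y)) _ (fun y => rfl), Fintype.sum_sigma, Finset.mul_sum]
  refine Finset.sum_congr rfl fun ω _ => ?_
  have key : ∀ y : MulAction.orbit A ω.out,
      (Nat.card (MulAction.stabilizer A (y : X)) : ℂ) * F (y : X) =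
        (Nat.card (MulAction.stabilizer A ω.out) : ℂ) * F ω.out := by
    rintro ⟨y, a, rfl⟩
    rw [hF]
    congr 2
    exact Nat.card_congr (MulAction.stabilizerEquivStabilizerOfOrbitRel (MulAction.mem_orbit _ a)).toEquiv
  have e : ∀ y : MulAction.orbit A ω.out, ((selfEquivSigmaOrbits A X).symm ⟨ω, y⟩ : X) = y := fun y => rfl
  simp only [e]
  rw [Finset.sum_congr rfl fun y _ => key y, Finset.sum_const, Finset.card_univ, nsmul_eq_mul,
    ← Nat.card_eq_fintype_card, ← mul_assoc, ← Nat.cast_mul, natCard_orbit_mul]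

end Orbits

variable {G : Type*} [Group G] [Fintype G] {p : ℕ} {M : Ideal AlgInt}

/-- A character of `p`-defect zero. -/
def DZ (p : ℕ) (χ : IrrCharacter G) : Prop := ¬ p ∣ Nat.card G / charDegree (χ : G → ℂ)

theorem vanishes (hM : IsPModular p M) {χ : IrrCharacter G} (h : DZ p χ) {g : G} (hg : p ∣ orderOf g) :
    (χ : G → ℂ) g = 0 :=
  eq_zero_of_blockOf_eq_singleton hM χ (blockOf_eq_singleton_of_not_dvd hM χ h) hg

/-- The values of a character of defect zero are divisible by the centraliser orders. -/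
theorem memLocalRing_div_card (hM : IsPModular p M) {χ : IrrCharacter G} (h : DZ p χ) (g : G) :
    MemLocalRing M ((χ : G → ℂ) g / (Nat.card (Subgroup.centralizer ({g} : Set G)) : ℂ)) := by
  have := isPrime hM
  have hd0 : (charDegree (χ : G → ℂ) : ℂ) ≠ 0 := by exact_mod_cast (charDegree_pos χ).ne'
  have hG0 : (Nat.card G : ℂ) ≠ 0 := Nat.cast_ne_zero.mpr Nat.card_pos.ne'
  have hC0 : (Nat.card (Subgroup.centralizer ({g} : Set G)) : ℂ) ≠ 0 :=
    Nat.cast_ne_zero.mpr Nat.card_pos.ne'
  have hinv : ((Nat.card G / charDegree (χ : G → ℂ) : ℕ) : ℂ)⁻¹ =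
      (charDegree (χ : G → ℂ) : ℂ) / (Nat.card G : ℂ) := by
    rw [Nat.cast_div (charDegree_dvd_card χ) hd0, inv_div]
  have h1 := (localRing M).mul_mem (centralChar_memLocalRing χ g) (memLocalRing_natCast_inv hM h)
  have hidx : ((Subgroup.centralizer ({g} : Set G)).index : ℂ) *
      (Nat.card (Subgroup.centralizer ({g} : Set G)) : ℂ) = Nat.card G := by
    exact_mod_cast (Subgroup.centralizer ({g} : Set G)).index_mul_card
  have e : (χ : G → ℂ) g / (Nat.card (Subgroup.centralizer ({g} : Set G)) : ℂ) =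
      centralChar (χ : G → ℂ) g * ((Nat.card G / charDegree (χ : G → ℂ) : ℕ) : ℂ)⁻¹ := by
    rw [hinv, centralChar, irr_one_eq]
    field_simp
    linear_combination -(χ : G → ℂ) g * hidx
  rw [e]
  exact h1

theorem memLocalIdeal_of_dvd_card (hM : IsPModular p M) {χ : IrrCharacter G} (h : DZ p χ) {g : G}
    (hp : p ∣ Nat.card (Subgroup.centralizer ({g} : Set G))) : MemLocalIdeal M ((χ : G → ℂ) g) := by
  have := isPrime hM
  have h0 : (Nat.card (Subgroup.centralizer ({g} : Set G)) : ℂ) ≠ 0 :=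
    Nat.cast_ne_zero.mpr Nat.card_pos.ne'
  have := memLocalIdeal_mul_right ((memLocalIdeal_natCast_iff hM _).mpr hp) (memLocalRing_div_card hM h g)
  rwa [mul_div_cancel₀ _ h0] at this

open Classical in
theorem sum_mul_translate (χ ψ : IrrCharacter G) (x : G) :
    ∑ g : G, (χ : G → ℂ) (x * g) * (ψ : G → ℂ) g⁻¹ =
      (if χ = ψ then (Nat.card G : ℂ) else 0) / (χ : G → ℂ) 1 * (χ : G → ℂ) x := by
  have h0 := sum_char_mul_inv χ ψ
  obtain ⟨f, n, ρ, hρ, rfl⟩ := χ
  haveI := hρ
  have ha : IsClassFunction G (fun g => (ψ : G → ℂ) g⁻¹) := fun a b => by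
    have := irr_class ψ a⁻¹ b
    simpa [mul_assoc] using this
  have h1 := congrArg (fun T => LinearMap.trace ℂ (Fin n → ℂ) (ρ x * T)) (sum_smul_eq_omega_smul ρ ha)
  simp only [Finset.mul_sum, mul_smul_comm, map_sum, map_smul, mul_one, ← map_mul, smul_eq_mul] at h1
  rw [omega_eq_sum] at h1
  have e : ∑ g : G, (ψ : G → ℂ) g⁻¹ * ρ.character g = ∑ g : G, ρ.character g * (ψ : G → ℂ) g⁻¹ :=
    Finset.sum_congr rfl fun g _ => mul_comm _ _
  rw [e, h0] at h1
  refine Eq.trans ?_ h1
  exact Finset.sum_congr rfl fun g _ => mul_comm _ _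

variable (U : Subgroup G) [Fintype U]

/-- The sum of `χ` over the coset `U h`. -/
noncomputable def usum (χ : G → ℂ) (h : G) : ℂ := ∑ u : U, χ ((u : G) * h)

/-- The order of `U ∩ hUh⁻¹`. -/
noncomputable def icard (h : G) : ℕ := Nat.card {u : U // h⁻¹ * (u : G) * h ∈ U}

theorem icard_pos (h : G) : 0 < icard U h := by
  haveI : Nonempty {u : U // h⁻¹ * (u : G) * h ∈ U} := ⟨⟨1, by simp⟩⟩
  exact Nat.card_pos

theorem usum_mul (χ : IrrCharacter G) {a b : G} (ha : a ∈ U) (hb : b ∈ U) (h : G) :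
    usum U (χ : G → ℂ) (a * h * b) = usum U (χ : G → ℂ) h := by
  refine Fintype.sum_equiv ((Equiv.mulRight (⟨a, ha⟩ : U)).trans (Equiv.mulLeft ⟨b, hb⟩)) _ _ fun u => ?_
  rw [← irr_class χ ((u : G) * (a * h * b)) b]
  congr 1
  simp [mul_assoc]

theorem icard_mul {a b : G} (ha : a ∈ U) (hb : b ∈ U) (h : G) : icard U (a * h * b) = icard U h := by
  refine Nat.card_congr (Equiv.subtypeEquiv
    ((Equiv.mulLeft (⟨a, ha⟩⁻¹ : U)).trans (Equiv.mulRight ⟨a, ha⟩)) fun u => ?_)
  have e : (a * h * b)⁻¹ * (u : G) * (a * h * b) = b⁻¹ * (h⁻¹ * (a⁻¹ * (u : G) * a) * h) * b := by group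
  rw [e, Subgroup.mul_mem_cancel_right U hb, Subgroup.mul_mem_cancel_left U (inv_mem hb)]
  rfl

theorem icard_inv (h : G) : icard U h⁻¹ = icard U h := by
  refine Nat.card_congr
    { toFun := fun u => ⟨⟨h * (u.1 : G) * h⁻¹, by simpa using u.2⟩, by
        show h⁻¹ * (h * (u.1 : G) * h⁻¹) * h ∈ U
        simp [mul_assoc]⟩
      invFun := fun u => ⟨⟨h⁻¹ * (u.1 : G) * h, u.2⟩, by
        show h⁻¹⁻¹ * (h⁻¹ * (u.1 : G) * h) * h⁻¹ ∈ U
        simp [mul_assoc]⟩
      left_inv := fun u => by ext; simp [mul_assoc]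
      right_inv := fun u => by ext; simp [mul_assoc] }

/-- `U × U` acting on `G` from the two sides. -/
@[reducible] def biAction : MulAction (U × U) G where
  smul a g := (a.1 : G) * g * (a.2 : G)⁻¹
  one_smul g := by show ((1 : U × U).1 : G) * g * ((1 : U × U).2 : G)⁻¹ = g; simp
  mul_smul a b g := by
    show ((a * b).1 : G) * g * ((a * b).2 : G)⁻¹ = (a.1 : G) * ((b.1 : G) * g * (b.2 : G)⁻¹) * (a.2 : G)⁻¹
    simp [mul_assoc]

/-- `usum` is divisible by `icard` in the local ring. -/
theorem memLocalRing_usum_div (hM : IsPModular p M) {χ : IrrCharacter G} (hχ : DZ p χ) (h : G) :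
    MemLocalRing M (usum U (χ : G → ℂ) h / (icard U h : ℂ)) := by
  classical
  have := isPrime hM
  let J : Subgroup G :=
    { carrier := {v : G | v ∈ U ∧ h * v * h⁻¹ ∈ U}
      one_mem' := ⟨one_mem U, by simp⟩
      mul_mem' := fun {a b} ha hb => ⟨mul_mem ha.1 hb.1, by
        have := mul_mem ha.2 hb.2
        simpa [mul_assoc] using this⟩
      inv_mem' := fun {a} ha => ⟨inv_mem ha.1, by simpa [mul_assoc] using inv_mem ha.2⟩ }
  have hJ : Nat.card J = icard U h := by
    rw [← icard_inv U h]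
    exact Nat.card_congr
      { toFun := fun x => ⟨⟨x.1, x.2.1⟩, by simpa using x.2.2⟩
        invFun := fun u => ⟨u.1.1, u.1.2, by simpa using u.2⟩
        left_inv := fun x => rfl
        right_inv := fun u => rfl }
  letI : MulAction J U :=
    { smul := fun v u => ⟨(v : G) * (u : G) * (h * (v : G) * h⁻¹)⁻¹,
        mul_mem (mul_mem v.2.1 u.2) (inv_mem v.2.2)⟩
      one_smul := fun u => Subtype.ext (by
        show ((1 : J) : G) * (u : G) * (h * ((1 : J) : G) * h⁻¹)⁻¹ = u
        simp)
      mul_smul := fun v w u => Subtype.ext (by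
        show ((v * w : J) : G) * (u : G) * (h * ((v * w : J) : G) * h⁻¹)⁻¹ =
          (v : G) * ((w : G) * (u : G) * (h * (w : G) * h⁻¹)⁻¹) * (h * (v : G) * h⁻¹)⁻¹
        simp [mul_assoc]) }
  have hsm : ∀ (v : J) (u : U), ((v • u : U) : G) * h = (v : G) * ((u : G) * h) * (v : G)⁻¹ := fun v u => by
    show (v : G) * (u : G) * (h * (v : G) * h⁻¹)⁻¹ * h = _
    group
  let f : U → ℂ := fun u => (χ : G → ℂ) ((u : G) * h) / (Nat.card (MulAction.stabilizer J u) : ℂ)
  have hf : ∀ (v : J) (u : U), f (v • u) = f u := by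
    intro v u
    simp only [f, hsm, irr_class χ ((u : G) * h) (v : G)]
    congr 2
    exact Nat.card_congr (MulAction.stabilizerEquivStabilizerOfOrbitRel (MulAction.mem_orbit u v)).toEquiv
  have hS : usum U (χ : G → ℂ) h = (Nat.card J : ℂ) * ∑ ω : orbitRel.Quotient J U, f ω.out := by
    rw [← sum_stabilizer_smul f hf]
    refine Finset.sum_congr rfl fun u _ => ?_
    rw [mul_div_cancel₀]
    exact Nat.cast_ne_zero.mpr Nat.card_pos.ne'
  rw [← hJ, hS, mul_div_cancel_left₀ _ (Nat.cast_ne_zero.mpr Nat.card_pos.ne')]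
  refine memLocalRing_sum fun ω _ => ?_
  generalize ω.out = u
  obtain ⟨m, hm⟩ : Nat.card (MulAction.stabilizer J u) ∣
      Nat.card (Subgroup.centralizer ({(u : G) * h} : Set G)) := by
    rw [Nat.card_congr (Subgroup.equivMapOfInjective (MulAction.stabilizer J u) J.subtype
      J.subtype_injective).toEquiv]
    refine Subgroup.card_dvd_of_le ?_
    rintro _ ⟨v, hv, rfl⟩
    rw [Subgroup.mem_centralizer_singleton_iff]
    have := hsm v u
    rw [MulAction.mem_stabilizer_iff.mp hv] at this
    show (v : G) * ((u : G) * h) = (u : G) * h * (v : G)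
    rw [eq_mul_inv_iff_mul_eq] at this
    exact this.symm
  have e : f u = (m : ℂ) * ((χ : G → ℂ) ((u : G) * h) /
      (Nat.card (Subgroup.centralizer ({(u : G) * h} : Set G)) : ℂ)) := by
    simp only [f, hm, Nat.cast_mul]
    have hm0 : (m : ℂ) ≠ 0 := Nat.cast_ne_zero.mpr fun h0 => by
      rw [h0, mul_zero] at hm
      exact Nat.card_pos.ne' hm
    have hs0 : (Nat.card (MulAction.stabilizer J u) : ℂ) ≠ 0 := Nat.cast_ne_zero.mpr Nat.card_pos.ne'
    field_simp
  rw [e]
  exact (localRing M).mul_mem (memLocalRing_natCast m) (memLocalRing_div_card hM hχ _)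

variable {U}

/-- At most one character of defect zero. -/
theorem eq_of_defect_zero [Fact p.Prime] (hM : IsPModular p M) (hU : IsPGroup p U) (hidx : ¬ p ∣ U.index)
    (hconst : ∀ χ : IrrCharacter G, DZ p χ → ∀ g h : G, icard U g = 1 → icard U h = 1 →
      MemLocalIdeal M (usum U (χ : G → ℂ) g - usum U (χ : G → ℂ) h))
    {χ ψ : IrrCharacter G} (hχ : DZ p χ) (hψ : DZ p ψ) : χ = ψ := by
  classical
  have := isPrime hM
  letI := biAction U
  let s : IrrCharacter G → G → ℂ := fun φ g => usum U (φ : G → ℂ) g / (icard U g : ℂ)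
  have hI : ∀ g, (icard U g : ℂ) ≠ 0 := fun g => Nat.cast_ne_zero.mpr (icard_pos U g).ne'
  have hUne : (Nat.card U : ℂ) ≠ 0 := Nat.cast_ne_zero.mpr Nat.card_pos.ne'
  have hstab : ∀ g : G, Nat.card (MulAction.stabilizer (U × U) g) = icard U g := fun g =>
    Nat.card_congr
      { toFun := fun a => ⟨a.1.1, by
          have h := a.2
          rw [MulAction.mem_stabilizer_iff] at h
          change (a.1.1 : G) * g * (a.1.2 : G)⁻¹ = g at h
          have e : g⁻¹ * (a.1.1 : G) * g = (a.1.2 : G) := by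
            rw [mul_inv_eq_iff_eq_mul] at h
            rw [mul_assoc, h, inv_mul_cancel_left]
          rw [e]; exact a.1.2.2⟩
        invFun := fun u => ⟨(u.1, ⟨_, u.2⟩), by
          rw [MulAction.mem_stabilizer_iff]
          show (u.1 : G) * g * (g⁻¹ * (u.1 : G) * g)⁻¹ = g
          group⟩
        left_inv := fun a => by
          have h := a.2
          rw [MulAction.mem_stabilizer_iff] at h
          change (a.1.1 : G) * g * (a.1.2 : G)⁻¹ = g at h
          refine Subtype.ext (Prod.ext rfl (Subtype.ext ?_))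
          show g⁻¹ * (a.1.1 : G) * g = _
          rw [mul_inv_eq_iff_eq_mul] at h
          rw [mul_assoc, h, inv_mul_cancel_left]
        right_inv := fun u => rfl }
  have hsm : ∀ (a : U × U) (g : G), a • g = (a.1 : G) * g * ((a.2 : G)⁻¹) := fun _ _ => rfl
  let N : ℕ := (Finset.univ.filter fun ω : orbitRel.Quotient (U × U) G => icard U ω.out = 1).card
  have key : ∀ φ θ : IrrCharacter G, DZ p φ → DZ p θ → ∀ g₀, (∀ g, icard U g = 1 → icard U g₀ = 1) →
      MemLocalIdeal M
      ((if φ = θ then (U.index : ℂ) else 0) - (N : ℂ) * (s φ g₀ * s θ g₀)) := by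
    intro φ θ hφ hθ g₀ hg₀
    have hphi : ∑ u : U, (φ : G → ℂ) (u : G) = (φ : G → ℂ) 1 := by
      rw [Finset.sum_eq_single (1 : U)]
      · rfl
      · intro u _ hu
        refine vanishes hM hφ ?_
        obtain ⟨k, hk⟩ := IsPGroup.iff_orderOf.mp hU u
        rw [Subgroup.orderOf_coe, hk]
        refine dvd_pow_self p ?_
        rintro rfl
        exact hu (orderOf_eq_one_iff.mp (by simpa using hk))
      · exact fun h => absurd (Finset.mem_univ _) h
    have h1 : ∑ g : G, usum U (φ : G → ℂ) g * usum U (θ : G → ℂ) g⁻¹ =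
        (if φ = θ then (Nat.card G : ℂ) else 0) * (Nat.card U : ℂ) := by
      have e1 : ∀ (u v : U), ∑ g : G, (φ : G → ℂ) ((u : G) * g) * (θ : G → ℂ) ((v : G) * g⁻¹) =
          (if φ = θ then (Nat.card G : ℂ) else 0) / (φ : G → ℂ) 1 * (φ : G → ℂ) ((u : G) * v) := by
        intro u v
        rw [← sum_mul_translate φ θ ((u : G) * v)]
        refine (Fintype.sum_equiv (Equiv.mulLeft ((v : G))) _ _ fun g => ?_).symm
        simp only [Equiv.coe_mulLeft, mul_assoc]
        congr 1
        rw [← irr_class θ g⁻¹ (v : G), mul_inv_rev, ← mul_assoc]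
      simp only [usum, Finset.sum_mul_sum]
      rw [Finset.sum_comm]
      rw [Finset.sum_congr rfl fun u _ => by rw [Finset.sum_comm, Finset.sum_congr rfl fun v _ => e1 u v],
        ]
      simp only [← Finset.mul_sum]
      have e2 : ∀ u : U, ∑ v : U, (φ : G → ℂ) ((u : G) * v) = (φ : G → ℂ) 1 := fun u => by
        rw [← hphi]
        exact Fintype.sum_equiv (Equiv.mulLeft u) _ _ fun v => rfl
      rw [Finset.sum_congr rfl fun u _ => e2 u, Finset.sum_const, Finset.card_univ, nsmul_eq_mul,
        ← Nat.card_eq_fintype_card]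
      have := irr_one_ne_zero φ
      field_simp
    let f : G → ℂ := fun g => s φ g * s θ g⁻¹ * (icard U g : ℂ)
    have hinv : ∀ (a : U × U) (g : G), f (a • g) = f g := by
      intro a g
      have e : (a • g)⁻¹ = (a.2 : G) * g⁻¹ * ((a.1 : G)⁻¹) := by rw [hsm]; group
      simp only [f, s, e]
      rw [hsm]
      simp only [usum_mul U _ a.1.2 (inv_mem a.2.2), icard_mul U a.1.2 (inv_mem a.2.2),
        usum_mul U _ a.2.2 (inv_mem a.1.2), icard_mul U a.2.2 (inv_mem a.1.2)]
    have h2 := sum_stabilizer_smul (A := U × U) (X := G) f hinv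
    have e3 : ∑ g : G, (Nat.card (MulAction.stabilizer (U × U) g) : ℂ) * f g =
        ∑ g : G, usum U (φ : G → ℂ) g * usum U (θ : G → ℂ) g⁻¹ := by
      refine Finset.sum_congr rfl fun g _ => ?_
      simp only [f, s, hstab, icard_inv U g]
      have := hI g
      field_simp
    rw [e3, h1, Nat.card_prod, Nat.cast_mul] at h2
    have h3 : (if φ = θ then (U.index : ℂ) else 0) = ∑ ω : orbitRel.Quotient (U × U) G, f ω.out := by
      refine mul_left_cancel₀ (mul_ne_zero hUne hUne) ?_
      rw [← h2]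
      split_ifs
      · rw [← Subgroup.card_mul_index U]; push_cast; ring
      · ring
    rw [h3, ← Finset.sum_filter_add_sum_filter_not Finset.univ
      (fun ω : orbitRel.Quotient (U × U) G => icard U ω.out = 1), add_sub_right_comm]
    refine memLocalIdeal_add ?_ (memLocalIdeal_sum fun ω hω => ?_)
    · have : (N : ℂ) * (s φ g₀ * s θ g₀) =
          ∑ _ω ∈ Finset.univ.filter (fun ω : orbitRel.Quotient (U × U) G => icard U ω.out = 1),
            s φ g₀ * s θ g₀ := by rw [Finset.sum_const, nsmul_eq_mul]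
      rw [this, ← Finset.sum_sub_distrib]
      refine memLocalIdeal_sum fun ω hω => ?_
      have hω1 : icard U ω.out = 1 := (Finset.mem_filter.mp hω).2
      have hω2 : icard U ω.out⁻¹ = 1 := by rw [icard_inv]; exact hω1
      have hg₀ : icard U g₀ = 1 := hg₀ _ hω1
      simp only [f, s, hω1, hω2, hg₀, Nat.cast_one, div_one, mul_one]
      have hint : ∀ (η : IrrCharacter G) (g : G), MemLocalRing M (usum U (η : G → ℂ) g) := fun η g =>
        memLocalRing_sum fun u _ => memLocalRing_of_isIntegral (isIntegral_irr η _)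
      have := memLocalIdeal_add
        (memLocalIdeal_mul_right (hconst φ hφ ω.out g₀ hω1 hg₀) (hint θ ω.out⁻¹))
        (memLocalIdeal_mul_left (hint φ g₀) (hconst θ hθ ω.out⁻¹ g₀ hω2 hg₀))
      convert this using 1
      ring
    · have hne : icard U ω.out ≠ 1 := (Finset.mem_filter.mp hω).2
      refine memLocalIdeal_mul_left ?_ ((memLocalIdeal_natCast_iff hM _).mpr ?_)
      · exact (localRing M).mul_mem (memLocalRing_usum_div U hM hφ _) (memLocalRing_usum_div U hM hθ _)
      · obtain ⟨j, hj⟩ := IsPGroup.iff_card.mp hU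
        have hUU : IsPGroup p (U × U) := IsPGroup.of_card (n := j + j) (by rw [Nat.card_prod, hj, pow_add])
        rw [← hstab] at hne ⊢
        obtain ⟨k, hk⟩ := IsPGroup.iff_card.mp (hUU.to_subgroup (MulAction.stabilizer (U × U) ω.out))
        rw [hk] at hne ⊢
        exact dvd_pow_self p fun h0 => hne (by rw [h0, pow_zero])
  have hidx' : ¬ MemLocalIdeal M (U.index : ℂ) := fun h => hidx ((memLocalIdeal_natCast_iff hM _).mp h)
  by_contra hne
  obtain ⟨g₀, hg₀⟩ : ∃ g₀, ∀ g, icard U g = 1 → icard U g₀ = 1 := by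
    by_cases hg : ∃ g₀, icard U g₀ = 1
    · exact ⟨hg.choose, fun _ _ => hg.choose_spec⟩
    · exact ⟨1, fun g h => absurd ⟨g, h⟩ hg⟩
  have h11 := key χ χ hχ hχ g₀ hg₀
  have h22 := key ψ ψ hψ hψ g₀ hg₀
  have h12 := key χ ψ hχ hψ g₀ hg₀
  rw [if_pos rfl] at h11 h22
  rw [if_neg hne, zero_sub] at h12
  have hs : ∀ {η : IrrCharacter G}, DZ p η → MemLocalRing M (s η g₀) := fun hη =>
    memLocalRing_usum_div U hM hη g₀
  have h12' : MemLocalIdeal M ((N : ℂ) * (s χ g₀ * s ψ g₀)) := by simpa using memLocalIdeal_neg h12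
  rcases memLocalIdeal_mem_or_mem ((localRing M).mul_mem (memLocalRing_natCast N) (hs hχ)) (hs hψ)
    (by rwa [mul_assoc]) with h | h
  · exact hidx' (by
      have := memLocalIdeal_add h11 (memLocalIdeal_mul_right h (hs hχ))
      convert this using 1; ring)
  · exact hidx' (by
      have := memLocalIdeal_add h22 (memLocalIdeal_mul_left
        ((localRing M).mul_mem (memLocalRing_natCast N) (hs hψ)) h)
      convert this using 1; ring)

end Cfsg.Agent.SLDefect
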